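import Cfsg.Prelude.Def_Transfer
import Cfsg.Prelude.Def_Local
import Cfsg.Agent.Lib.Transfer.Residual
import Cfsg.Agent.LocalEven61.Yoshida

/-!
# Transfer into the centralizer of an involution with extraspecial 2-core

If `E ⊴ H = C(z)` is extraspecial of width at least two, self-centralizing in `G`, and `G` has
no nontrivial 2-quotient, then every homomorphism of `H` to an abelian 2-group kills `E`.
-/

set_option autoImplicit false
set_option linter.style.haveILetI false

namespace Cfsg.Agent.ExtraTransfer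

open scoped commutatorElement

variable {G : Type*} [Group G]

/-- The data: `E` is a self-centralizing normal extraspecial 2-subgroup of `C(z)`, of order above 8. -/
structure Setup (z : G) (E : Subgroup G) : Prop where
  z_ne : z ≠ 1
  z_sq : z * z = 1
  z_mem : z ∈ E
  le_cent : E ≤ Subgroup.centralizer {z}
  normal : ∀ h ∈ Subgroup.centralizer {z}, ∀ a ∈ E, h * a * h⁻¹ ∈ E
  pgroup : IsPGroup 2 ↥E
  comm : ∀ a ∈ E, ∀ b ∈ E, ⁅a, b⁆ = 1 ∨ ⁅a, b⁆ = z
  sq : ∀ a ∈ E, a * a = 1 ∨ a * a = z
  cent : ∀ y : G, (∀ a ∈ E, y * a = a * y) → y = 1 ∨ y = z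
  card_gt : 8 < Nat.card ↥E

variable {z : G} {E : Subgroup G}

theorem Setup.z_comm (s : Setup z E) {a : G} (ha : a ∈ E) : z * a = a * z :=
  (Subgroup.mem_centralizer_singleton_iff.1 (s.le_cent ha)).symm

theorem Setup.z_inv (s : Setup z E) : z⁻¹ = z := inv_eq_of_mul_eq_one_right s.z_sq

theorem Setup.conj_eq (s : Setup z E) {a b : G} (ha : a ∈ E) (hb : b ∈ E) (hne : a * b ≠ b * a) :
    a * b * a⁻¹ = z * b := by
  rcases s.comm a ha b hb with h | h
  · exact absurd (commutatorElement_eq_one_iff_mul_comm.1 h) hne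
  · rw [commutatorElement_def] at h
    calc a * b * a⁻¹ = (a * b * a⁻¹ * b⁻¹) * b := by group
      _ = z * b := by rw [h]

/-- Two elements not commuting with `x` differ by one commuting with `x`. -/
theorem Setup.diff_comm (s : Setup z E) {x a b : G} (hx : x ∈ E) (ha : a ∈ E) (hb : b ∈ E)
    (hna : a * x ≠ x * a) (hnb : b * x ≠ x * b) : a⁻¹ * b * x = x * (a⁻¹ * b) := by
  have h2 := s.conj_eq hb hx hnb
  have h1 : a⁻¹ * x * a = z * x := by
    have := s.conj_eq (inv_mem ha) hx (fun h => hna (by
      calc a * x = a * (x * a⁻¹) * a := by group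
        _ = a * (a⁻¹ * x) * a := by rw [h]
        _ = x * a := by group))
    rwa [inv_inv] at this
  calc a⁻¹ * b * x = a⁻¹ * (b * x * b⁻¹) * b := by group
    _ = a⁻¹ * (z * x) * b := by rw [h2]
    _ = (a⁻¹ * z) * x * b := by group
    _ = (z * a⁻¹) * x * b := by rw [s.z_comm (inv_mem ha)]
    _ = z * (a⁻¹ * x * a) * (a⁻¹ * b) := by group
    _ = (z * z) * (x * (a⁻¹ * b)) := by rw [h1]; group
    _ = x * (a⁻¹ * b) := by rw [s.z_sq, one_mul]

/-- An element has at most two cosets of its centralizer in a subgroup of `E`. -/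
theorem Setup.card_le_two_mul [Finite G] (s : Setup z E) {K : Subgroup G} (hK : K ≤ E) {x : G}
    (hx : x ∈ E) : Nat.card ↥K ≤ 2 * Nat.card ↥(K ⊓ Subgroup.centralizer {x}) := by
  classical
  set C := K ⊓ Subgroup.centralizer {x} with hC
  by_cases h : ∀ a ∈ K, a * x = x * a
  · have hKC : C = K :=
      inf_eq_left.2 fun a ha => Subgroup.mem_centralizer_singleton_iff.2 (h a ha)
    rw [hKC]
    omega
  push Not at h
  obtain ⟨a₀, ha₀, hne₀⟩ := h
  have hmem : ∀ a : K, ¬ ((a : G) * x = x * a) → a₀⁻¹ * a ∈ C := fun a ha =>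
    Subgroup.mem_inf.2 ⟨mul_mem (inv_mem ha₀) a.2,
      Subgroup.mem_centralizer_singleton_iff.2 (s.diff_comm hx (hK ha₀) (hK a.2) hne₀ ha)⟩
  let f : K → C ⊕ C := fun a =>
    if ha : (a : G) * x = x * a then
      Sum.inl ⟨a, a.2, Subgroup.mem_centralizer_singleton_iff.2 ha⟩
    else Sum.inr ⟨a₀⁻¹ * a, hmem a ha⟩
  have hf : Function.Injective f := by
    intro a b hab
    by_cases ha : (a : G) * x = x * a <;> by_cases hb : (b : G) * x = x * b <;>
      simp only [f, dif_pos, dif_neg, ha, hb, not_false_iff] at hab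
    · exact Subtype.ext (congrArg Subtype.val (Sum.inl.inj hab) :)
    · exact absurd hab Sum.inl_ne_inr
    · exact absurd hab Sum.inr_ne_inl
    · exact Subtype.ext (mul_left_cancel (congrArg Subtype.val (Sum.inr.inj hab) :))
  calc Nat.card ↥K ≤ Nat.card (C ⊕ C) := Nat.card_le_card_of_injective f hf
    _ = 2 * Nat.card ↥C := by rw [Nat.card_sum, two_mul]

theorem Setup.card_center_part [Finite G] (s : Setup z E) {K : Subgroup G}
    (hK : ∀ k ∈ K, k = 1 ∨ k = z) : Nat.card ↥K ≤ 2 := by
  classical
  have hinj : Function.Injective (fun k : K => decide ((k : G) = z)) := by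
    intro a b h
    simp only [decide_eq_decide] at h
    rcases hK a a.2 with ha | ha <;> rcases hK b b.2 with hb | hb
    · exact Subtype.ext (ha.trans hb.symm)
    · exact absurd (ha.symm.trans (h.2 hb)) s.z_ne.symm
    · exact absurd (hb.symm.trans (h.1 ha)) s.z_ne.symm
    · exact Subtype.ext (ha.trans hb.symm)
  have := Nat.card_le_card_of_injective _ hinj
  rwa [Nat.card_eq_fintype_card (α := Bool), Fintype.card_bool] at this

/-- For a noncentral `e ∈ E` the centralizer `C_E(e)` is not abelian. -/
theorem Setup.exists_comm_eq [Finite G] (s : Setup z E) {e : G} (he : e ∈ E) (he1 : e ≠ 1)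
    (hez : e ≠ z) : ∃ a ∈ E, ∃ b ∈ E, a * e = e * a ∧ b * e = e * b ∧ ⁅a, b⁆ = z := by
  by_contra hcon
  push Not at hcon
  obtain ⟨f, hf, hfe⟩ : ∃ f ∈ E, f * e ≠ e * f := by
    by_contra h
    push Not at h
    rcases s.cent e (fun a ha => (h a ha).symm) with h' | h'
    · exact he1 h'
    · exact hez h'
  set W := E ⊓ Subgroup.centralizer {e} with hW
  have hWab : ∀ a ∈ W, ∀ b ∈ W, a * b = b * a := fun a ha b hb =>
    commutatorElement_eq_one_iff_mul_comm.1 ((s.comm a ha.1 b hb.1).resolve_right
      (hcon a ha.1 b hb.1 (Subgroup.mem_centralizer_singleton_iff.1 ha.2)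
        (Subgroup.mem_centralizer_singleton_iff.1 hb.2)))
  have hD : ∀ k ∈ W ⊓ Subgroup.centralizer {f}, k = 1 ∨ k = z := by
    intro k hk
    obtain ⟨hkW, hkf⟩ := hk
    refine s.cent k fun a ha => ?_
    by_cases hae : a * e = e * a
    · exact hWab k hkW a ⟨ha, Subgroup.mem_centralizer_singleton_iff.2 hae⟩
    · have h1 : f⁻¹ * a ∈ W := Subgroup.mem_inf.2 ⟨mul_mem (inv_mem hf) ha,
        Subgroup.mem_centralizer_singleton_iff.2 (s.diff_comm he hf ha hfe hae)⟩
      have h2 : Commute k (f⁻¹ * a) := hWab k hkW _ h1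
      have h3 : Commute k f := Subgroup.mem_centralizer_singleton_iff.1 hkf
      have h4 := h3.mul_right h2
      rw [mul_inv_cancel_left] at h4
      exact h4
  have h1 := s.card_le_two_mul le_rfl he
  have h2 := s.card_le_two_mul (inf_le_left : W ≤ E) hf
  have h3 := s.card_center_part hD
  have := s.card_gt
  rw [hW] at h3
  omega

/-- A proper subgroup misses some involution of `E`. -/
theorem Setup.exists_involution_notMem [Finite G] (s : Setup z E) {I : Subgroup G}
    (hzI : z ∈ I) (hlt : ¬ E ≤ I) : ∃ e ∈ E, e * e = 1 ∧ e ∉ I := by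
  by_contra hcon
  push Not at hcon
  have hout : ∀ a ∈ E, a ∉ I → a * a = z := fun a ha haI =>
    (s.sq a ha).resolve_left fun h => haI (hcon a ha h)
  have hinv : ∀ f ∈ E, f ∉ I → ∀ a ∈ E, a ∈ I → f * a * f⁻¹ = a⁻¹ := by
    intro f hf hfI a ha haI
    have h1 : f * a * (f * a) = f * f := (hout _ (mul_mem hf ha)
      fun h => hfI (by simpa using mul_mem h (inv_mem haI))).trans (hout f hf hfI).symm
    have h2 : a * f * a = f := mul_left_cancel (a := f) (by rw [← h1]; group)
    have h3 : a⁻¹ * f = f * a := by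
      calc a⁻¹ * f = a⁻¹ * (a * f * a) := by rw [h2]
        _ = f * a := by group
    rw [← h3, mul_inv_cancel_right]
  obtain ⟨f, hf, hfI⟩ := SetLike.not_le_iff_exists.1 hlt
  have hfz := hout f hf hfI
  have hkey : ∀ h ∈ E, h ∈ I → h * f = f * h → h = 1 ∨ h = z := by
    intro h hh hhI hhf
    have h1 := hinv f hf hfI h hh hhI
    rw [← hhf, mul_inv_cancel_right] at h1
    refine s.cent h fun a ha => ?_
    by_cases haI : a ∈ I
    · have hfab : f * (h * a) * f⁻¹ = h * a⁻¹ := by
        calc f * (h * a) * f⁻¹ = (f * h * f⁻¹) * (f * a * f⁻¹) := by group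
          _ = h * a⁻¹ := by rw [hinv f hf hfI h hh hhI, hinv f hf hfI a ha haI, ← h1]
      rw [hinv f hf hfI _ (mul_mem hh ha) (mul_mem hhI haI), _root_.mul_inv_rev, ← h1] at hfab
      calc h * a = a * (a⁻¹ * h) * a := by group
        _ = a * (h * a⁻¹) * a := by rw [hfab]
        _ = a * h := by group
    · have h2 := hinv a ha haI h hh hhI
      rw [← h1] at h2
      calc h * a = (a * h * a⁻¹) * a := by rw [h2]
        _ = a * h := by group
  have hC : ∀ h ∈ E ⊓ Subgroup.centralizer {f},
      h = 1 ∨ h = z ∨ h = f ∨ h = f * z := by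
    intro h hmem
    obtain ⟨hh, hhf⟩ := Subgroup.mem_inf.1 hmem
    rw [Subgroup.mem_centralizer_singleton_iff] at hhf
    by_cases hhI : h ∈ I
    · exact (hkey h hh hhI hhf).imp id Or.inl
    · have hsq : (f⁻¹ * h) * (f⁻¹ * h) = 1 := by
        have hc : Commute f⁻¹ h := (show Commute h f from hhf).symm.inv_left
        calc f⁻¹ * h * (f⁻¹ * h) = f⁻¹ * (h * f⁻¹) * h := by group
          _ = (f * f)⁻¹ * (h * h) := by rw [← hc.eq]; group
          _ = 1 := by rw [hfz, hout h hh hhI, inv_mul_cancel]
      have hfh : f⁻¹ * h * f = f * (f⁻¹ * h) := by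
        rw [mul_assoc, hhf]; group
      rcases hkey _ (mul_mem (inv_mem hf) hh) (hcon _ (mul_mem (inv_mem hf) hh) hsq) hfh with
        h' | h'
      · exact Or.inr (Or.inr (Or.inl (inv_mul_eq_one.1 h').symm))
      · exact Or.inr (Or.inr (Or.inr (inv_mul_eq_iff_eq_mul.1 h')))
  have hfour : Nat.card ↥(E ⊓ Subgroup.centralizer {f}) ≤ 4 := by
    classical
    have := Nat.card_mono (s := (↑(E ⊓ Subgroup.centralizer {f}) : Set G))
      (t := (↑({1, z, f, f * z} : Finset G) : Set G)) (Set.toFinite _) (fun h hh => by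
        rcases hC h hh with h' | h' | h' | h' <;> simp [h'])
    refine this.trans ?_
    simp only [Finset.coe_sort_coe, Nat.card_eq_fintype_card, Fintype.card_coe]
    exact Finset.card_le_four
  have h1 := s.card_le_two_mul le_rfl hf
  have := s.card_gt
  omega

/-- The crucial fixed coset computation. -/
theorem Setup.conj_mem_of_centralizing (s : Setup z E) {e : G} (he : e ∈ E) (he2 : e * e = 1)
    (he1 : e ≠ 1) (hez : e ≠ z) {a b : G} (ha : a ∈ E) (hae : a * e = e * a) (hb : b ∈ E)
    (hbe : b * e = e * b) (hab : ⁅a, b⁆ = z) {y : G} (hy2 : y * y = 1) (hy1 : y ≠ 1) (hyz : y ≠ z)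
    (hy : ∀ w ∈ E, w * e = e * w → y * w = w * y) :
    y = e ∨ y = e * z := by
  have hyC : y ∈ Subgroup.centralizer {z} :=
    Subgroup.mem_centralizer_singleton_iff.2 (hy z s.z_mem (s.z_comm he))
  obtain ⟨f, hf, hfe⟩ : ∃ f ∈ E, f * e ≠ e * f := by
    by_contra h
    push Not at h
    rcases s.cent e (fun x hx => (h x hx).symm) with h' | h'
    · exact he1 h'
    · exact hez h'
  -- elements commuting with `C_E(e)` and `f` are central
  have hcen : ∀ x : G, (∀ w ∈ E, w * e = e * w → x * w = w * x) → x * f = f * x →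
      x = 1 ∨ x = z := by
    intro x hxW hxf
    refine s.cent x fun c hc => ?_
    by_cases hce : c * e = e * c
    · exact hxW c hc hce
    · have h4 := (show Commute x f from hxf).mul_right (show Commute x (f⁻¹ * c) from
        hxW _ (mul_mem (inv_mem hf) hc) (s.diff_comm he hf hc hfe hce))
      rw [mul_inv_cancel_left] at h4
      exact h4
  set c := f⁻¹ * (y * f * y⁻¹) with hc
  have hyfE := s.normal y hyC f hf
  have hcE : c ∈ E := mul_mem (inv_mem hf) hyfE
  have hfc : y * f * y⁻¹ = f * c := by rw [hc]; group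
  have hcW : ∀ w ∈ E, w * e = e * w → c * w = w * c := by
    intro w hw hwe
    set w' := f * w * f⁻¹ with hw'
    have hw'E : w' ∈ E := mul_mem (mul_mem hf hw) (inv_mem hf)
    have hef := s.conj_eq hf he hfe
    have hz : f * z * f⁻¹ = z := by rw [← s.z_comm hf]; group
    have hfwe : w' * e = e * w' := by
      have hef' : f⁻¹ * e * f = z * e := by
        have h5 : e = f⁻¹ * (z * e) * f := by rw [← hef]; group
        calc f⁻¹ * e * f = (z * z) * (f⁻¹ * e * f) := by rw [s.z_sq, one_mul]
          _ = z * ((z * f⁻¹) * e * f) := by group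
          _ = z * ((f⁻¹ * z) * e * f) := by rw [s.z_comm (inv_mem hf)]
          _ = z * e := by rw [mul_assoc f⁻¹ z e, ← h5]
      calc w' * e = f * (w * (f⁻¹ * e * f)) * f⁻¹ := by rw [hw']; group
        _ = f * (w * (z * e)) * f⁻¹ := by rw [hef']
        _ = f * ((z * e) * w) * f⁻¹ := by
              have hzw : w * (z * e) = z * e * w := by
                rw [← mul_assoc, ← s.z_comm hw, mul_assoc, hwe, ← mul_assoc]
              rw [hzw]
        _ = f * ((f⁻¹ * e * f) * w) * f⁻¹ := by rw [hef']
        _ = e * w' := by rw [hw']; group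
    have h1 := hy w' hw'E hfwe
    have h2 := hy w hw hwe
    have h3 : f * c * w * (f * c)⁻¹ = w' := by
      rw [← hfc]
      calc y * f * y⁻¹ * w * (y * f * y⁻¹)⁻¹ = y * f * (y⁻¹ * (w * y)) * f⁻¹ * y⁻¹ := by group
        _ = y * f * w * f⁻¹ * y⁻¹ := by rw [← h2, inv_mul_cancel_left]
        _ = (y * w') * y⁻¹ := by rw [hw']; group
        _ = w' := by rw [h1, mul_inv_cancel_right]
    rw [hw'] at h3
    calc c * w = f⁻¹ * (f * c * w * (f * c)⁻¹) * (f * c) := by group
      _ = f⁻¹ * (f * w * f⁻¹) * (f * c) := by rw [h3]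
      _ = w * c := by group
  have heW : ∀ w ∈ E, w * e = e * w → e * w = w * e := fun w _ h => h.symm
  by_cases hcf : c * f = f * c
  · rcases hcen c hcW hcf with h | h
    · rw [h, mul_one, mul_inv_eq_iff_eq_mul] at hfc
      rcases hcen y hy hfc with h' | h'
      · exact absurd h' hy1
      · exact absurd h' hyz
    · have h1 : (y * e) * f = f * (y * e) := by
        have h4 : e * f = f * e * z := by
          rcases s.comm e he f hf with h5 | h5
          · exact absurd (commutatorElement_eq_one_iff_mul_comm.1 h5).symm hfe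
          · calc e * f = ⁅e, f⁆ * (f * e) := by rw [commutatorElement_def]; group
              _ = f * e * z := by rw [h5, s.z_comm (mul_mem hf he)]
        calc y * e * f = y * (f * e * z) := by rw [mul_assoc, h4]
          _ = (y * f * y⁻¹) * y * e * z := by group
          _ = f * (z * (y * e)) * z := by rw [hfc, h]; group
          _ = f * ((y * e) * z) * z := by
              rw [show z * (y * e) = y * e * z by
                rw [← mul_assoc, ← hy z s.z_mem (s.z_comm he), mul_assoc, s.z_comm he, ← mul_assoc]]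
          _ = f * (y * e) * (z * z) := by group
          _ = f * (y * e) := by rw [s.z_sq, mul_one]
      have hyeW : ∀ w ∈ E, w * e = e * w → y * e * w = w * (y * e) := fun w hw hwe => by
        rw [mul_assoc, ← hwe, ← mul_assoc, hy w hw hwe, mul_assoc]
      have heinv : e⁻¹ = e := inv_eq_of_mul_eq_one_right he2
      rcases hcen _ hyeW h1 with h' | h'
      · exact Or.inl (by rw [eq_mul_inv_of_mul_eq h', one_mul, heinv])
      · exact Or.inr (by rw [eq_mul_inv_of_mul_eq h', heinv, s.z_comm he])
  · exfalso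
    have hce : c * f * c⁻¹ = z * f := s.conj_eq hcE hf hcf
    have hc2 : c * c = 1 := by
      rcases s.sq c hcE with h | h
      · exact h
      · exfalso
        have hce1 : (c * e) * f = f * (c * e) := by
          have h6 := s.diff_comm hf (inv_mem hcE) he (fun h7 => hcf (by
            calc c * f = c * (f * c⁻¹) * c := by group
              _ = c * (c⁻¹ * f) * c := by rw [h7]
              _ = f * c := by group)) (Ne.symm hfe)
          rwa [inv_inv] at h6
        have hceW : ∀ w ∈ E, w * e = e * w → c * e * w = w * (c * e) := fun w hw hwe => by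
          rw [mul_assoc, ← hwe, ← mul_assoc, hcW w hw hwe, mul_assoc]
        have heinv : e⁻¹ = e := inv_eq_of_mul_eq_one_right he2
        have key : c * c = 1 := by
          rcases hcen _ hceW hce1 with h8 | h8 <;>
            rw [eq_mul_inv_of_mul_eq h8, heinv]
          · rw [one_mul, he2]
          · calc z * e * (z * e) = z * (e * z) * e := by group
              _ = (z * z) * (e * e) := by rw [← s.z_comm he]; group
              _ = 1 := by rw [s.z_sq, he2, one_mul]
        exact s.z_ne (h.symm.trans key)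
    have hff : f * f * y = y * (f * f) := by
      rcases s.sq f hf with h | h <;> rw [h]
      · simp
      · exact (hy z s.z_mem (s.z_comm he)).symm
    have h9 : f * c * (f * c) = f * f := by
      rw [← hfc]
      calc y * f * y⁻¹ * (y * f * y⁻¹) = (y * (f * f)) * y⁻¹ := by group
        _ = f * f := by rw [← hff, mul_inv_cancel_right]
    have h10 : f * c * (f * c) = f * f * z := by
      calc f * c * (f * c) = f * (c * f * c⁻¹) * (c * c) := by group
        _ = f * (z * f) := by rw [hce, hc2, mul_one]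
        _ = f * f * z := by rw [s.z_comm hf]; group
    rw [h10, mul_eq_left] at h9
    exact s.z_ne h9

end Cfsg.Agent.ExtraTransfer
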