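import Cfsg.Agent.Lib.PGroup.Basic
import Mathlib.GroupTheory.PGroup
import Mathlib.Data.ZMod.Basic
import Mathlib.Algebra.CharP.Two
import Mathlib.GroupTheory.GroupAction.Basic
import Mathlib.Algebra.BigOperators.Fin

/-!
# Summing a mod 2 cocycle over an orbit of a 2-group

A transfer term is the sum of a cocycle over the orbit.  A point-free involutory permutation
commuting with the group lets the sum descend to the quotient by this permutation.
-/

set_option autoImplicit false
set_option linter.style.haveILetI false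

namespace Cfsg.Agent.ExtraTransfer

section

variable {T O : Type*} [Group T] [MulAction T O]

/-- A mod 2 cocycle. -/
def IsCocycle (c : T → O → ZMod 2) : Prop := ∀ a b x, c (a * b) x = c a (b • x) + c b x

theorem IsCocycle.map_one {c : T → O → ZMod 2} (hc : IsCocycle c) (x : O) : c 1 x = 0 := by
  have := hc 1 1 x
  rw [one_smul, mul_one] at this
  exact left_eq_add.1 this

/-- `t` acts as a fixed-point-free involution commuting with the whole group. -/
structure IsFlip (O : Type*) {T : Type*} [Group T] [MulAction T O] (t : T) : Prop where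
  comm : ∀ (a : T) (x : O), t • a • x = a • t • x
  invol : ∀ x : O, t • t • x = x
  free : ∀ x : O, t • x ≠ x

variable {t : T}

/-- The relation whose classes are the pairs of a flip. -/
def IsFlip.setoid (h : IsFlip O t) : Setoid O where
  r x y := y = x ∨ y = t • x
  iseqv := ⟨fun _ => Or.inl rfl,
    fun {x y} hxy => hxy.elim (fun e => Or.inl e.symm) fun e => Or.inr (by rw [e, h.invol]),
    fun {x y w} h1 h2 => by
      rcases h1 with rfl | rfl <;> rcases h2 with rfl | rfl
      · exact Or.inl rfl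
      · exact Or.inr rfl
      · exact Or.inr rfl
      · exact Or.inl (h.invol x)⟩

/-- The pairs of a flip. -/
def IsFlip.Pairs (h : IsFlip O t) : Type _ := Quotient h.setoid

/-- The class of a point. -/
def IsFlip.pr (h : IsFlip O t) (x : O) : h.Pairs := Quotient.mk h.setoid x

theorem IsFlip.pr_surjective (h : IsFlip O t) : Function.Surjective h.pr :=
  fun p => Quotient.inductionOn p fun x => ⟨x, rfl⟩

theorem IsFlip.pr_eq_iff (h : IsFlip O t) {x y : O} : h.pr x = h.pr y ↔ y = x ∨ y = t • x :=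
  Quotient.eq (r := h.setoid)

instance IsFlip.pairsAction (h : IsFlip O t) : MulAction T h.Pairs where
  smul a := Quotient.map (sa := h.setoid) (sb := h.setoid) (a • ·) fun x y hxy =>
    hxy.elim (fun e => Or.inl (by rw [e])) fun e => Or.inr (by rw [e, h.comm])
  one_smul p := Quotient.inductionOn p fun x => congrArg h.pr (one_smul T x)
  mul_smul a b p := Quotient.inductionOn p fun x => congrArg h.pr (mul_smul a b x)

theorem IsFlip.smul_pr (h : IsFlip O t) (a : T) (x : O) : a • h.pr x = h.pr (a • x) := rfl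

instance IsFlip.pairsTransitive (h : IsFlip O t) [MulAction.IsPretransitive T O] :
    MulAction.IsPretransitive T h.Pairs :=
  ⟨fun p q => by
    obtain ⟨x, rfl⟩ := h.pr_surjective p
    obtain ⟨y, rfl⟩ := h.pr_surjective q
    obtain ⟨a, rfl⟩ := MulAction.exists_smul_eq T x y
    exact ⟨a, h.smul_pr a x⟩⟩

noncomputable instance IsFlip.pairsFintype (h : IsFlip O t) [Fintype O] : Fintype h.Pairs :=
  haveI : Finite h.Pairs := Finite.of_surjective h.pr h.pr_surjective
  Fintype.ofFinite _

open Classical in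
/-- Sum a function over each pair. -/
noncomputable def IsFlip.push [Fintype O] (h : IsFlip O t) (F : O → ZMod 2) (p : h.Pairs) :
    ZMod 2 :=
  ∑ x ∈ Finset.univ.filter (fun x => h.pr x = p), F x

theorem IsFlip.push_pr [Fintype O] (h : IsFlip O t) (F : O → ZMod 2) (x : O) :
    h.push F (h.pr x) = F x + F (t • x) := by
  classical
  have e : Finset.univ.filter (fun y => h.pr y = h.pr x) = {x, t • x} := by
    ext y
    simp only [Finset.mem_filter, Finset.mem_univ, true_and, Finset.mem_insert,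
      Finset.mem_singleton]
    rw [eq_comm, h.pr_eq_iff]
  rw [IsFlip.push, e, Finset.sum_pair (h.free x).symm]

theorem IsFlip.sum_push [Fintype O] (h : IsFlip O t) (F : O → ZMod 2) :
    ∑ p, h.push F p = ∑ x, F x := by
  classical
  exact Finset.sum_fiberwise Finset.univ h.pr F

theorem IsFlip.isCocycle_push [Fintype O] (h : IsFlip O t) {c : T → O → ZMod 2}
    (hc : IsCocycle c) : IsCocycle fun a => h.push (c a) := by
  intro a b p
  obtain ⟨x, rfl⟩ := h.pr_surjective p
  simp only [h.smul_pr, h.push_pr, hc a b, h.comm b x]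
  ring

/-- When the square of the flip has value zero the sum is that of the commutator with the flip. -/
theorem IsFlip.sum_cocycle [Fintype O] (h : IsFlip O t) {c : T → O → ZMod 2} (hc : IsCocycle c)
    (h2 : ∀ x, c (t * t) x = 0) (a : T) :
    ∃ d : h.Pairs → ZMod 2, ∑ x, c a x = ∑ p, d p ∧
      ∀ x, d (h.pr x) = c ((t * a)⁻¹ * (a * t)) x := by
  classical
  have hf : ∀ x, c t (t • x) = c t x := fun x => by
    have := hc t t x
    rw [h2] at this
    exact CharTwo.add_eq_zero.1 this.symm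
  let f : h.Pairs → ZMod 2 := Quotient.lift (s := h.setoid) (c t) fun x y hxy =>
    hxy.elim (fun e => by rw [e]) fun e => by rw [e, hf]
  refine ⟨fun p => h.push (c a) p + (f (a • p) + f p), ?_, fun x => ?_⟩
  · have e : ∑ p, f (a • p) = ∑ p, f p := Equiv.sum_comp (MulAction.toPerm a) f
    rw [Finset.sum_add_distrib, Finset.sum_add_distrib, e, CharTwo.add_self_eq_zero, add_zero,
      h.sum_push]
  · show h.push (c a) (h.pr x) + (c t (a • x) + c t x) = _
    rw [h.push_pr]
    set k := (t * a)⁻¹ * (a * t) with hk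
    have hkx : k • x = x := by
      rw [hk, mul_smul, inv_smul_eq_iff, mul_smul, mul_smul, h.comm]
    have h1 := hc a t x
    have h2' := hc (t * a) k x
    rw [hkx, hc t a x, show t * a * k = a * t by rw [hk]; group, h1] at h2'
    calc c a x + c a (t • x) + (c t (a • x) + c t x)
        = (c a (t • x) + c t x) + (c t (a • x) + c a x) := by ring
      _ = (c t (a • x) + c a x + c k x) + (c t (a • x) + c a x) := by rw [h2']
      _ = c k x + ((c t (a • x) + c a x) + (c t (a • x) + c a x)) := by ring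
      _ = c k x := by rw [CharTwo.add_self_eq_zero, add_zero]

/-- A function invariant under a 2-group and vanishing at its fixed points has even sum. -/
theorem sum_eq_zero_of_invariant [Fintype O] [Finite T] (hT : IsPGroup 2 T) (E : Subgroup T)
    (F : O → ZMod 2) (hinv : ∀ e ∈ E, ∀ x, F (e • x) = F x)
    (hfix : ∀ x, (∀ e ∈ E, e • x = x) → F x = 0) : ∑ x, F x = 0 := by
  classical
  have h01 : ∀ v : ZMod 2, v = if v = 1 then 1 else 0 := by decide
  have h10 : (1 : ZMod 2) ≠ 0 := by decide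
  haveI : Fact (Nat.Prime 2) := ⟨Nat.prime_two⟩
  let S : SubMulAction ↥E O :=
    { carrier := {x | F x = 1}
      smul_mem' := fun e x hx => (hinv e e.2 x).trans hx }
  have hS : (MulAction.fixedPoints ↥E S) = ∅ := by
    ext ⟨x, hx⟩
    simp only [MulAction.mem_fixedPoints, Set.mem_empty_iff_false, iff_false]
    intro hall
    have h0 := hfix x fun e he => congrArg Subtype.val (hall ⟨e, he⟩)
    exact h10 ((show F x = 1 from hx).symm.trans h0)
  have h := (hT.to_subgroup E).card_modEq_card_fixedPoints (α := S)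
  rw [hS] at h
  simp only [Nat.card_of_isEmpty] at h
  have e1 : ∑ x, F x = ∑ x, (if F x = 1 then 1 else 0 : ZMod 2) :=
    Finset.sum_congr rfl fun x _ => h01 _
  rw [e1, Finset.sum_boole, (ZMod.natCast_eq_zero_iff _ 2).mpr]
  have hc : (Finset.univ.filter fun x => F x = 1).card = Nat.card S := by
    rw [← Fintype.card_subtype, ← Nat.card_eq_fintype_card]
    rfl
  rw [hc]
  exact Nat.modEq_zero_iff_dvd.1 h

/-- A nontrivial normal subgroup of a 2-group contains an element acting as a flip. -/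
theorem exists_flip [Finite T] [Finite O] [Nonempty O] [MulAction.IsPretransitive T O]
    (hT : IsPGroup 2 T) (E : Subgroup T) [hE : E.Normal] (z : T) (hz : ∀ x : O, z • x = x)
    (hsq : ∀ e ∈ E, e * e = 1 ∨ e * e = z) (hmove : ∀ x : O, ∃ e ∈ E, e • x ≠ x) :
    ∃ t ∈ E, IsFlip O t := by
  classical
  haveI : Fact (Nat.Prime 2) := ⟨Nat.prime_two⟩
  set φ := (MulAction.toPermHom T O).rangeRestrict
  haveI : (E.map φ).Normal := hE.map φ (MonoidHom.rangeRestrict_surjective _)
  have hne : E.map φ ≠ ⊥ := by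
    intro hbot
    obtain ⟨x⟩ := ‹Nonempty O›
    obtain ⟨e, he, hex⟩ := hmove x
    have h1 : φ e = 1 := Subgroup.mem_bot.1 (hbot ▸ Subgroup.mem_map_of_mem φ he)
    exact hex (DFunLike.congr_fun (congrArg Subtype.val h1 :) x)
  have hPG : IsPGroup 2 ↥(MulAction.toPermHom T O).range :=
    hT.of_surjective φ (MonoidHom.rangeRestrict_surjective _)
  have hmeet : E.map φ ⊓ Subgroup.center _ ≠ ⊥ :=
    Cfsg.Agent.PGroup.inf_center_ne_bot hPG hne
  obtain ⟨u, hu, hu1⟩ := (Subgroup.bot_or_exists_ne_one _).resolve_left hmeet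
  obtain ⟨hu, huc⟩ := Subgroup.mem_inf.1 hu
  obtain ⟨t, ht, rfl⟩ := Subgroup.mem_map.1 hu
  have hcomm : ∀ (a : T) (x : O), t • a • x = a • t • x := fun a x =>
    (DFunLike.congr_fun (congrArg Subtype.val (Subgroup.mem_center_iff.1 huc (φ a)) :) x).symm
  refine ⟨t, ht, hcomm, fun x => ?_, fun x hx => hu1 (Subtype.ext (Equiv.ext fun y => ?_))⟩
  · rw [← mul_smul]
    rcases hsq t ht with h | h <;> rw [h]
    · exact one_smul T x
    · exact hz x
  · obtain ⟨a, rfl⟩ := MulAction.exists_smul_eq T x y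
    show t • a • x = a • x
    rw [hcomm, hx]

/-- The sum vanishes when `z` has value zero. -/
theorem sum_eq_zero_of_z [Fintype O] [Finite T] [MulAction.IsPretransitive T O]
    (hT : IsPGroup 2 T) (E : Subgroup T) [hE : E.Normal] (z : T) (hz : ∀ x : O, z • x = x)
    (hsq : ∀ e ∈ E, e * e = 1 ∨ e * e = z)
    (hcomm : ∀ e ∈ E, ∀ k ∈ E, ∃ w, (w = 1 ∨ w = z) ∧ k * e = e * (k * w))
    {c : T → O → ZMod 2} (hc : IsCocycle c) (hcz : ∀ x, c z x = 0)
    (hmove : ∀ x : O, ∃ e ∈ E, e • x ≠ x)
    (h0 : ∀ x y : O, (∀ e ∈ E, e • x = x ∨ e • x = y) → ∀ k ∈ E, k • x = x → c k x = 0)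
    (a : T) : ∑ x, c a x = 0 := by
  classical
  rcases isEmpty_or_nonempty O with hO | hO
  · simp
  obtain ⟨t, ht, hflip⟩ := exists_flip hT E z hz hsq hmove
  have h2 : ∀ x, c (t * t) x = 0 := fun x => by
    rcases hsq t ht with h | h <;> rw [h]
    · exact hc.map_one x
    · exact hcz x
  obtain ⟨d, hd, hdk⟩ := hflip.sum_cocycle hc h2 a
  set k := (t * a)⁻¹ * (a * t) with hk
  have hkE : k ∈ E := by
    rw [hk, show (t * a)⁻¹ * (a * t) = a⁻¹ * t⁻¹ * a⁻¹⁻¹ * t by group]
    exact mul_mem (hE.conj_mem _ (inv_mem ht) _) ht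
  have hkx : ∀ x : O, k • x = x := fun x => by
    rw [hk, mul_smul, inv_smul_eq_iff, mul_smul, mul_smul, hflip.comm]
  rw [hd]
  refine sum_eq_zero_of_invariant hT E d (fun e he p => ?_) fun p hp => ?_
  · obtain ⟨x, rfl⟩ := hflip.pr_surjective p
    rw [hflip.smul_pr, hdk, hdk]
    obtain ⟨w, hw, hke⟩ := hcomm e he k hkE
    have hwx : w • x = x ∧ c w x = 0 := by
      rcases hw with rfl | rfl
      · exact ⟨one_smul T x, hc.map_one x⟩
      · exact ⟨hz x, hcz x⟩
    have h1 := hc k e x
    rw [hke, hc e (k * w) x, hc k w x, mul_smul, hwx.1, hkx, hwx.2, add_zero] at h1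
    exact (add_right_cancel (h1.symm.trans (add_comm (c e x) (c k x)))).trans rfl
  · obtain ⟨x, rfl⟩ := hflip.pr_surjective p
    rw [hdk]
    refine h0 x (t • x) (fun e he => ?_) k hkE (hkx x)
    exact hflip.pr_eq_iff.1 ((hflip.smul_pr e x).symm.trans (hp e he)).symm

/-- The orbit sum vanishes. -/
theorem cocycle_sum_eq_zero [Fintype O] [Finite T] [MulAction.IsPretransitive T O]
    (hT : IsPGroup 2 T) (E : Subgroup T) [hE : E.Normal] (z : T)
    (hzc : ∀ a : T, z * a = a * z) (hzz : z * z = 1)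
    (hsq : ∀ e ∈ E, e * e = 1 ∨ e * e = z)
    (hcomm : ∀ e ∈ E, ∀ k ∈ E, ∃ w, (w = 1 ∨ w = z) ∧ k * e = e * (k * w))
    {c : T → O → ZMod 2} (hc : IsCocycle c)
    (hmove : ∀ x : O, ∃ e ∈ E, e • x ≠ x)
    (h0 : ∀ x y : O, z • x = x → c z x = 0 → (∀ e ∈ E, e • x = x ∨ e • x = y) →
      ∀ k ∈ E, k • x = x → c k x = 0)
    (h1 : ∀ x y₁ y₂ y₃ : O, z • x = x → c z x = 1 →
      (∀ e ∈ E, e • x = x ∨ e • x = y₁ ∨ e • x = y₂ ∨ e • x = y₃) → False)
    (a : T) : ∑ x, c a x = 0 := by
  classical
  have hzsmul : ∀ (b : T) (x : O), z • b • x = b • z • x := fun b x => by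
    rw [← mul_smul, hzc, mul_smul]
  by_cases hz : ∀ x : O, z • x = x
  swap
  · push Not at hz
    obtain ⟨x₀, hx₀⟩ := hz
    have hflip : IsFlip O z := by
      refine ⟨hzsmul, fun x => by rw [← mul_smul, hzz, one_smul], fun x hx => hx₀ ?_⟩
      obtain ⟨b, rfl⟩ := MulAction.exists_smul_eq T x x₀
      rw [hzsmul, hx]
    obtain ⟨d, hd, hdk⟩ := hflip.sum_cocycle hc (fun x => by rw [hzz]; exact hc.map_one x) a
    rw [hd]
    refine Finset.sum_eq_zero fun p _ => ?_
    obtain ⟨x, rfl⟩ := hflip.pr_surjective p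
    rw [hdk, show (z * a)⁻¹ * (a * z) = 1 by rw [hzc]; group]
    exact hc.map_one x
  have hconst : ∀ (b : T) (x : O), c z (b • x) = c z x := fun b x => by
    have h := hc z b x
    rw [hzc, hc b z x, hz] at h
    exact (add_right_cancel (h.symm.trans (add_comm (c b x) (c z x)))).trans rfl
  by_cases hcz : ∀ x, c z x = 0
  · exact sum_eq_zero_of_z hT E z hz hsq hcomm hc hcz hmove (fun x y => h0 x y (hz x) (hcz x)) a
  have h1' : ∀ x, c z x = 1 := fun x => by
    have h01 : ∀ v : ZMod 2, v ≠ 0 → v = 1 := by decide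
    push Not at hcz
    obtain ⟨x₀, hx₀⟩ := hcz
    obtain ⟨b, rfl⟩ := MulAction.exists_smul_eq T x₀ x
    rw [hconst]
    exact h01 _ hx₀
  rcases isEmpty_or_nonempty O with hO | hO
  · simp
  obtain ⟨t, ht, hflip⟩ := exists_flip hT E z hz hsq hmove
  rw [← hflip.sum_push]
  refine sum_eq_zero_of_z (c := fun b => hflip.push (c b)) hT E z ?_ hsq hcomm
    (hflip.isCocycle_push hc) ?_ ?_ ?_ a
  · intro p
    obtain ⟨x, rfl⟩ := hflip.pr_surjective p
    rw [hflip.smul_pr, hz]
  · intro p
    obtain ⟨x, rfl⟩ := hflip.pr_surjective p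
    show hflip.push (c z) (hflip.pr x) = 0
    rw [hflip.push_pr, h1', h1']
    exact CharTwo.add_self_eq_zero 1
  · intro p
    obtain ⟨x, rfl⟩ := hflip.pr_surjective p
    by_contra hcon
    push Not at hcon
    refine h1 x (t • x) x x (hz x) (h1' x) fun e he => ?_
    rcases hflip.pr_eq_iff.1 ((hflip.smul_pr e x).symm.trans (hcon e he)).symm with h | h
    · exact Or.inl h
    · exact Or.inr (Or.inl h)
  · intro p q hpq k _ _
    obtain ⟨x, rfl⟩ := hflip.pr_surjective p
    obtain ⟨y, rfl⟩ := hflip.pr_surjective q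
    refine (h1 x (t • x) y (t • y) (hz x) (h1' x) fun e he => ?_).elim
    rcases hpq e he with h | h <;> rw [hflip.smul_pr, eq_comm, hflip.pr_eq_iff] at h
    · exact h.elim Or.inl fun h => Or.inr (Or.inl h)
    · exact h.elim (fun h => Or.inr (Or.inr (Or.inl h))) fun h => Or.inr (Or.inr (Or.inr h))

end

end Cfsg.Agent.ExtraTransfer
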