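import Cfsg.Agent.ExtraTransfer.Basic

/-!
# Centralizers inside the extraspecial subgroup
-/

set_option autoImplicit false
set_option linter.style.haveILetI false

namespace Cfsg.Agent.ExtraTransfer

open scoped commutatorElement

variable {G : Type*} [Group G] [Finite G] {z : G} {E : Subgroup G}

/-- Centralizing a subset costs at most the order of the subgroup it generates. -/
theorem Setup.card_mul_le (s : Setup z E) {K D : Subgroup G} (hK : K ≤ E)
    (hKD : ∀ k ∈ K, ∀ d ∈ D, k * d = d * k) (S : Finset G) (hS : ∀ u ∈ S, u ∈ E) :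
    Nat.card ↥K * Nat.card ↥D ≤
      Nat.card ↥(K ⊓ Subgroup.centralizer (S : Set G)) *
        Nat.card ↥(D ⊔ Subgroup.closure (S : Set G)) := by
  classical
  induction S using Finset.induction_on with
  | empty =>
    refine le_of_eq ?_
    rw [Finset.coe_empty, Subgroup.closure_empty, sup_bot_eq,
      inf_eq_left.2 fun k _ => Subgroup.mem_centralizer_iff.2 fun _ h => h.elim]
  | @insert u S _ ih =>
    have ih' := ih fun v hv => hS v (Finset.mem_insert_of_mem hv)
    set K' := K ⊓ Subgroup.centralizer (S : Set G) with hK'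
    set D' := D ⊔ Subgroup.closure (S : Set G) with hD'
    have hKu : K' ⊓ Subgroup.centralizer {u} ≤
        K ⊓ Subgroup.centralizer (↑(insert u S) : Set G) := by
      rintro k ⟨⟨hk, hkS⟩, hku⟩
      refine ⟨hk, Subgroup.mem_centralizer_iff.2 fun v hv => ?_⟩
      rcases Finset.mem_insert.1 (Finset.mem_coe.1 hv) with rfl | hv'
      · exact (Subgroup.mem_centralizer_singleton_iff.1 hku).symm
      · exact Subgroup.mem_centralizer_iff.1 hkS v hv'
    have hDu : D' ⊔ Subgroup.zpowers u ≤ D ⊔ Subgroup.closure (↑(insert u S) : Set G) := by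
      refine sup_le (sup_le le_sup_left ((Subgroup.closure_mono ?_).trans le_sup_right))
        (Subgroup.zpowers_le.2 (Subgroup.mem_sup_right (Subgroup.subset_closure ?_)))
      · exact Finset.coe_subset.2 (Finset.subset_insert u S)
      · exact Finset.mem_coe.2 (Finset.mem_insert_self u S)
    refine ih'.trans (le_trans ?_ (Nat.mul_le_mul (Subgroup.card_le_of_le hKu)
      (Subgroup.card_le_of_le hDu)))
    by_cases hu : u ∈ D'
    · have hc : K' ≤ Subgroup.centralizer {u} := by
        intro k hk
        have hle : D' ≤ Subgroup.centralizer ({k} : Set G) := by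
          refine sup_le (fun d hd => ?_) ((Subgroup.closure_le _).2 fun v hv => ?_)
          · exact Subgroup.mem_centralizer_singleton_iff.2 (hKD k hk.1 d hd).symm
          · exact Subgroup.mem_centralizer_singleton_iff.2
              (Subgroup.mem_centralizer_iff.1 hk.2 v hv)
        exact Subgroup.mem_centralizer_singleton_iff.2
          (Subgroup.mem_centralizer_singleton_iff.1 (hle hu)).symm
      rw [inf_eq_left.2 hc]
      exact Nat.mul_le_mul_left _ (Subgroup.card_le_of_le le_sup_left)
    · have h1 := s.card_le_two_mul (inf_le_left.trans hK : K' ≤ E)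
        (hS u (Finset.mem_insert_self u S))
      have h2 : 2 * Nat.card ↥D' ≤ Nat.card ↥(D' ⊔ Subgroup.zpowers u) := by
        obtain ⟨m, hm⟩ := Subgroup.card_dvd_of_le (le_sup_left : D' ≤ D' ⊔ Subgroup.zpowers u)
        have hne : m ≠ 1 := by
          intro h
          rw [h, mul_one] at hm
          have he := Subgroup.eq_of_le_of_card_ge (le_sup_left : D' ≤ D' ⊔ Subgroup.zpowers u) hm.le
          exact hu (he.symm ▸ Subgroup.mem_sup_right (Subgroup.mem_zpowers u))
        have hm0 : m ≠ 0 := by
          intro h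
          rw [h, mul_zero] at hm
          exact Nat.card_pos.ne' hm
        rw [hm, mul_comm 2]
        exact Nat.mul_le_mul_left _ (by omega)
      calc Nat.card ↥K' * Nat.card ↥D'
          ≤ (2 * Nat.card ↥(K' ⊓ Subgroup.centralizer {u})) * Nat.card ↥D' :=
            Nat.mul_le_mul_right _ h1
        _ = Nat.card ↥(K' ⊓ Subgroup.centralizer {u}) * (2 * Nat.card ↥D') := by ring
        _ ≤ _ := Nat.mul_le_mul_left _ h2

/-- The centralizer in `E` of a subgroup containing `z` is large. -/
theorem Setup.two_mul_card_le (s : Setup z E) {D : Subgroup G} (hD : D ≤ E) (hzD : z ∈ D) :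
    2 * Nat.card ↥E ≤ Nat.card ↥(E ⊓ Subgroup.centralizer (D : Set G)) * Nat.card ↥D := by
  classical
  haveI := Fintype.ofFinite D
  have h := s.card_mul_le (K := E) (D := Subgroup.zpowers z) le_rfl (fun k hk d hd => by
    obtain ⟨i, rfl⟩ := Subgroup.mem_zpowers_iff.1 hd
    exact (Commute.zpow_left (show Commute z k from s.z_comm hk) i).symm.eq)
    (D : Set G).toFinset (fun u hu => hD (Set.mem_toFinset.1 hu))
  rw [Set.coe_toFinset, Subgroup.closure_eq, sup_eq_right.2 (Subgroup.zpowers_le.2 hzD),
    Nat.card_zpowers, orderOf_eq_prime (by rw [pow_two, s.z_sq]) s.z_ne] at h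
  rw [mul_comm]
  exact h

/-- An abelian subgroup of `E` has order at most the square root of `2|E|`. -/
theorem Setup.abelian_card_le (s : Setup z E) {D : Subgroup G} (hD : D ≤ E)
    (hab : ∀ a ∈ D, ∀ b ∈ D, a * b = b * a) :
    Nat.card ↥D * Nat.card ↥D ≤ 2 * Nat.card ↥E := by
  classical
  haveI := Fintype.ofFinite E
  have h := s.card_mul_le (D := D) hD hab (E : Set G).toFinset (fun u hu => Set.mem_toFinset.1 hu)
  rw [Set.coe_toFinset, Subgroup.closure_eq, sup_eq_right.2 hD] at h
  refine h.trans (Nat.mul_le_mul_right _ (s.card_center_part fun k hk => ?_))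
  exact s.cent k fun a ha => (Subgroup.mem_centralizer_iff.1 hk.2 a ha).symm

/-- A subgroup covering `E` in few cosets has bounded index. -/
theorem card_le_of_cover {D : Subgroup G} (F : Finset G)
    (hF : ∀ e ∈ E, ∃ f ∈ F, f⁻¹ * e ∈ D) : Nat.card ↥E ≤ F.card * Nat.card ↥D := by
  classical
  choose f hf hfD using fun e : E => hF e e.2
  let φ : E → F × D := fun e => (⟨f e, hf e⟩, ⟨(f e)⁻¹ * e, hfD e⟩)
  have hφ : Function.Injective φ := by
    intro a b h
    have h1 : f a = f b := congrArg (fun p : F × D => (p.1 : G)) h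
    have h2 : (f a)⁻¹ * (a : G) = (f b)⁻¹ * b := congrArg (fun p : F × D => (p.2 : G)) h
    rw [h1] at h2
    exact Subtype.ext (mul_left_cancel h2)
  have := Nat.card_le_card_of_injective φ hφ
  rwa [Nat.card_prod, Nat.card_eq_fintype_card (α := F), Fintype.card_coe] at this

/-- An outside involution centralizing a subgroup of index two of `E` lies in `E`. -/
theorem Setup.mem_of_centralizing (s : Setup z E) {D : Subgroup G} (hD : D ≤ E) (hzD : z ∈ D)
    {f : G} (hf : f ∈ E) (hcov : ∀ e ∈ E, e ∈ D ∨ f⁻¹ * e ∈ D)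
    {y : G} (hy2 : y * y = 1) (hy1 : y ≠ 1) (hyz : y ≠ z) (hy : ∀ d ∈ D, y * d = d * y) :
    y ∈ E := by
  classical
  have hcen : ∀ x : G, (∀ d ∈ D, x * d = d * x) → x * f = f * x → x = 1 ∨ x = z := by
    intro x hx hxf
    refine s.cent x fun e he => ?_
    rcases hcov e he with h | h
    · exact hx e h
    · have := (show Commute x f from hxf).mul_right (show Commute x (f⁻¹ * e) from hx _ h)
      rwa [mul_inv_cancel_left] at this
  have hyC : y ∈ Subgroup.centralizer {z} := Subgroup.mem_centralizer_singleton_iff.2 (hy z hzD)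
  set c := f⁻¹ * (y * f * y⁻¹) with hc
  have hcE : c ∈ E := mul_mem (inv_mem hf) (s.normal y hyC f hf)
  have hfc : y * f * y⁻¹ = f * c := by rw [hc]; group
  have hconj : ∀ d ∈ D, f * d * f⁻¹ ∈ D := by
    intro d hd
    by_cases h : f * d = d * f
    · rwa [h, mul_inv_cancel_right]
    · rw [s.conj_eq hf (hD hd) h]
      exact mul_mem hzD hd
  have hcD : ∀ d ∈ D, c * d = d * c := by
    intro d hd
    have h1 : y * f * y⁻¹ * d * (y * f * y⁻¹)⁻¹ = f * d * f⁻¹ := by
      have e1 : y⁻¹ * d * y = d := by rw [mul_assoc, ← hy d hd, inv_mul_cancel_left]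
      have e2 : y * (f * d * f⁻¹) * y⁻¹ = f * d * f⁻¹ := by
        rw [hy _ (hconj d hd), mul_inv_cancel_right]
      calc _ = y * (f * (y⁻¹ * d * y) * f⁻¹) * y⁻¹ := by group
        _ = _ := by rw [e1, e2]
    rw [hfc] at h1
    calc c * d = f⁻¹ * (f * c * d * (f * c)⁻¹) * f * c := by group
      _ = f⁻¹ * (f * d * f⁻¹) * f * c := by rw [h1]
      _ = d * c := by group
  have hc1z : c = 1 ∨ c = z := by
    by_cases hcf : c * f = f * c
    · exact hcen c hcD hcf
    exfalso
    have hcmem : c ∈ D := (hcov c hcE).resolve_right fun h => hcf (by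
      have h2 : c * (f⁻¹ * c) = (f⁻¹ * c) * c := hcD _ h
      rw [← mul_assoc] at h2
      have h4 : c * f⁻¹ = f⁻¹ * c := mul_right_cancel h2
      calc c * f = f * (f⁻¹ * c) * f := by group
        _ = f * (c * f⁻¹) * f := by rw [h4]
        _ = f * c := by group)
    have hc2 : c * c = 1 := by
      have e : f = f * c * c := by
        calc f = (y * y) * f * (y * y)⁻¹ := by rw [hy2]; group
          _ = y * (y * f * y⁻¹) * y⁻¹ := by group
          _ = y * (f * c) * y⁻¹ := by rw [hfc]
          _ = (y * f * y⁻¹) * (y * c * y⁻¹) := by group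
          _ = f * c * c := by rw [hfc, hy c hcmem, mul_inv_cancel_right]
      rw [mul_assoc] at e
      exact mul_eq_left.1 e.symm
    have h9 : f * c * (f * c) = f * f := by
      have hff : y * (f * f) * y⁻¹ = f * f := by
        rcases s.sq f hf with h | h <;> rw [h]
        · group
        · rw [hy z hzD, mul_inv_cancel_right]
      rw [← hfc, show y * f * y⁻¹ * (y * f * y⁻¹) = y * (f * f) * y⁻¹ by group, hff]
    have h10 : f * c * (f * c) = f * f * z := by
      calc f * c * (f * c) = f * (c * f * c⁻¹) * (c * c) := by group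
        _ = f * (z * f) := by rw [s.conj_eq hcE hf hcf, hc2, mul_one]
        _ = f * f * z := by rw [s.z_comm hf]; group
    rw [h10, mul_eq_left] at h9
    exact s.z_ne h9
  rcases hc1z with hc1 | hcz
  · rw [hc1, mul_one, mul_inv_eq_iff_eq_mul] at hfc
    rcases hcen y hy hfc with h | h
    · exact absurd h hy1
    · exact absurd h hyz
  obtain ⟨e, he, he1, hez⟩ : ∃ e ∈ E ⊓ Subgroup.centralizer (D : Set G), e ≠ 1 ∧ e ≠ z := by
    by_contra hcon
    push Not at hcon
    have h1 := s.two_mul_card_le hD hzD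
    have h2 : Nat.card ↥(E ⊓ Subgroup.centralizer (D : Set G)) ≤ 2 :=
      s.card_center_part fun k hk => (em (k = 1)).imp id fun h => hcon k hk h
    have h3 : Nat.card ↥D < Nat.card ↥E := by
      by_contra hlt
      push Not at hlt
      have hDE := Subgroup.eq_of_le_of_card_ge hD hlt
      rcases s.cent y (fun a ha => hy a (hDE.symm ▸ ha)) with h | h
      · exact hy1 h
      · exact hyz h
    have h4 := Nat.mul_le_mul_right (Nat.card ↥D) h2
    omega
  have heE := (Subgroup.mem_inf.1 he).1
  have heD : ∀ d ∈ D, e * d = d * e := fun d hd =>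
    (Subgroup.mem_centralizer_iff.1 (Subgroup.mem_inf.1 he).2 d hd).symm
  have hef : e * f ≠ f * e := fun h => (hcen e heD h).elim he1 hez
  have hef' := s.conj_eq heE hf hef
  have hfz : y * f * y⁻¹ = z * f := by rw [hfc, hcz, s.z_comm hf]
  have hcomm : e⁻¹ * y * f = f * (e⁻¹ * y) := by
    have e1 : e⁻¹ * (z * f) * e = f := by rw [← hef']; group
    calc e⁻¹ * y * f = e⁻¹ * (y * f * y⁻¹) * e * (e⁻¹ * y) := by group
      _ = f * (e⁻¹ * y) := by rw [hfz, e1]
  have hD' : ∀ d ∈ D, e⁻¹ * y * d = d * (e⁻¹ * y) := fun d hd =>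
    ((show Commute e d from heD d hd).inv_left.mul_left (show Commute y d from hy d hd)).eq
  rcases hcen _ hD' hcomm with h | h
  · rw [inv_mul_eq_one] at h
    exact h ▸ heE
  · rw [inv_mul_eq_iff_eq_mul] at h
    exact h ▸ mul_mem heE s.z_mem

end Cfsg.Agent.ExtraTransfer
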