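import Cfsg.Agent.ExtraTransfer.Basic
import Cfsg.Agent.Lib.Thompson.Cores

/-!
# Homomorphisms of the centralizer kill the extraspecial 2-core
-/

set_option autoImplicit false
set_option linter.style.haveILetI false

namespace Cfsg.Agent.ExtraTransfer

open scoped commutatorElement
open Cfsg.Agent.LocalEven61

variable {G : Type*} [Group G] [Finite G]

theorem setup_of_card {z : G} (hz : orderOf z = 2) {E : Subgroup G}
    (hE : E = (Cfsg.pCore 2 ↥(Subgroup.centralizer ({z} : Set G))).map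
      (Subgroup.centralizer ({z} : Set G)).subtype)
    (hext : Cfsg.IsExtraspecial 2 ↥E) (hcent : Subgroup.centralizer (E : Set G) ≤ E)
    (hgt : 8 < Nat.card ↥E) : Setup z E := by
  classical
  haveI : Fact (Nat.Prime 2) := ⟨Nat.prime_two⟩
  have hz1 : z ≠ 1 := fun h => by rw [h, orderOf_one] at hz; omega
  have hEle : E ≤ Subgroup.centralizer {z} := hE ▸ Subgroup.map_subtype_le _
  have hzc : z ∈ Subgroup.centralizer (E : Set G) := Subgroup.mem_centralizer_iff.2 fun a ha =>
    Subgroup.mem_centralizer_singleton_iff.1 (hEle ha)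
  have hzE : z ∈ E := hcent hzc
  obtain ⟨⟨hp, hfr, hcomm⟩, hZ⟩ := hext
  have hzZ : (⟨z, hzE⟩ : E) ∈ Subgroup.center ↥E := Subgroup.mem_center_iff.2 fun a =>
    Subtype.ext (Subgroup.mem_centralizer_iff.1 hzc a a.2)
  have htwo : ∀ a : E, a ∈ Subgroup.center ↥E → (a : G) = 1 ∨ (a : G) = z := by
    intro a ha
    by_contra hcon
    push Not at hcon
    haveI := Fintype.ofFinite (Subgroup.center ↥E)
    have hcard3 : ({(1 : Subgroup.center ↥E), ⟨⟨z, hzE⟩, hzZ⟩, ⟨a, ha⟩} :
        Finset (Subgroup.center ↥E)).card = 3 := by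
      rw [Finset.card_eq_three]
      refine ⟨_, _, _, fun h => hz1 ?_, fun h => hcon.1 ?_, fun h => hcon.2 ?_, rfl⟩
      · exact (congrArg (fun t : Subgroup.center ↥E => ((t : E) : G)) h).symm
      · exact (congrArg (fun t : Subgroup.center ↥E => ((t : E) : G)) h).symm
      · exact (congrArg (fun t : Subgroup.center ↥E => ((t : E) : G)) h).symm
    have := Finset.card_le_univ ({(1 : Subgroup.center ↥E), ⟨⟨z, hzE⟩, hzZ⟩, ⟨a, ha⟩} :
      Finset (Subgroup.center ↥E))
    rw [hcard3, ← Nat.card_eq_fintype_card, hZ] at this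
    omega
  refine ⟨hz1, ?_, hzE, hEle, ?_, hp, ?_, ?_, ?_, ?_⟩
  · rw [← pow_two, ← hz, pow_orderOf_eq_one]
  · intro h hh a ha
    rw [hE] at ha ⊢
    obtain ⟨a', ha', rfl⟩ := ha
    exact ⟨⟨h, hh⟩ * a' * ⟨h, hh⟩⁻¹, Subgroup.Normal.conj_mem inferInstance a' ha' _, rfl⟩
  · intro a ha b hb
    have h : ⁅(⟨a, ha⟩ : E), ⟨b, hb⟩⁆ ∈ Subgroup.center ↥E := hcomm ▸
      (commutator_def ↥E ▸ Subgroup.commutator_mem_commutator (Subgroup.mem_top _) (Subgroup.mem_top _))
    exact htwo _ h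
  · intro a ha
    have h : (⟨a, ha⟩ : E) ^ 2 ∈ Subgroup.center ↥E := hfr ▸ Cfsg.Agent.PGroup.pow_mem_frattini hp _
    rw [pow_two] at h
    exact htwo _ h
  · intro y hy
    have hyC : y ∈ Subgroup.centralizer (E : Set G) :=
      Subgroup.mem_centralizer_iff.2 fun a ha => (hy a ha).symm
    exact htwo ⟨y, hcent hyC⟩ (Subgroup.mem_center_iff.2 fun a => Subtype.ext (hy a a.2).symm)
  · exact hgt

theorem setup_of {z : G} (hz : orderOf z = 2) {E : Subgroup G}
    (hE : E = (Cfsg.pCore 2 ↥(Subgroup.centralizer ({z} : Set G))).map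
      (Subgroup.centralizer ({z} : Set G)).subtype)
    (hext : Cfsg.IsExtraspecial 2 ↥E) (hcent : Subgroup.centralizer (E : Set G) ≤ E) {n : ℕ}
    (hn : 2 ≤ n) (hcard : Nat.card ↥E = 2 ^ (2 * n + 1)) : Setup z E :=
  setup_of_card hz hE hext hcent (by
    rw [hcard]
    calc 8 < 2 ^ 5 := by norm_num
      _ ≤ _ := Nat.pow_le_pow_right (by norm_num) (by omega))

variable {z : G} {E : Subgroup G} {A : Type*} [CommGroup A]

/-- The commutator trick: `z` is killed. -/
theorem map_z (s : Setup z E) (ψ : ↥(Subgroup.centralizer ({z} : Set G)) →* A)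
    (hzH : z ∈ Subgroup.centralizer ({z} : Set G)) : ψ ⟨z, hzH⟩ = 1 := by
  obtain ⟨e, he, hne⟩ : ∃ e ∈ E, e ≠ 1 ∧ e ≠ z := by
    by_contra h
    push Not at h
    have := s.card_center_part (K := E) fun k hk =>
      (em (k = 1)).imp id fun hk1 => h k hk hk1
    have := s.card_gt
    omega
  obtain ⟨a, ha, b, hb, -, -, hab⟩ := s.exists_comm_eq he hne.1 hne.2
  rw [show (⟨z, hzH⟩ : ↥(Subgroup.centralizer ({z} : Set G))) =
    ⁅(⟨a, s.le_cent ha⟩ : ↥(Subgroup.centralizer ({z} : Set G))), (⟨b, s.le_cent hb⟩ : ↥(Subgroup.centralizer ({z} : Set G)))⁆ from Subtype.ext hab.symm,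
    map_commutatorElement, commutatorElement_eq_one_iff_mul_comm, mul_comm]

/-- An involution of `E` lies in the kernel. -/
theorem map_involution (s : Setup z E) (ψ : ↥(Subgroup.centralizer ({z} : Set G)) →* A)
    (hA : IsPGroup 2 A) (hres : Cfsg.pResidual 2 G = ⊤) {e : G} (he : e ∈ E) (he2 : e * e = 1)
    (hez : e ≠ z) (heH : e ∈ Subgroup.centralizer ({z} : Set G)) :
    ψ ⟨e, heH⟩ = 1 := by
  classical
  rcases eq_or_ne e 1 with rfl | he1
  · exact map_one ψ
  haveI : Fact (Nat.Prime 2) := ⟨Nat.prime_two⟩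
  letI : Fintype (G ⧸ (Subgroup.centralizer ({z} : Set G))) := Fintype.ofFinite _
  have hV : MonoidHom.transfer ψ e = 1 :=
    Cfsg.Agent.Transfer.pResidual_le_ker (MonoidHom.transfer ψ) hA
      (show e ∈ Cfsg.pResidual 2 G by rw [hres]; exact Subgroup.mem_top e)
  have heord : orderOf e = 2 := orderOf_eq_prime (by rw [pow_two, he2]) he1
  rw [transfer_eq_prod_cosetVal ψ e (fun h hd hne => ?_)] at hV
  swap
  · rw [heord] at hd hne
    rcases (Nat.dvd_prime Nat.prime_two).1 hd with h1 | h2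
    · rw [show h = 1 from Subtype.ext (orderOf_eq_one_iff.1 h1), map_one]
    · exact absurd h2 hne
  obtain ⟨a, ha, b, hb, hae, hbe, hab⟩ := s.exists_comm_eq he he1 hez
  set W := E ⊓ Subgroup.centralizer ({e} : Set G) with hW
  have haW : a ∈ W := Subgroup.mem_inf.2 ⟨ha, Subgroup.mem_centralizer_singleton_iff.2 hae⟩
  have hbW : b ∈ W := Subgroup.mem_inf.2 ⟨hb, Subgroup.mem_centralizer_singleton_iff.2 hbe⟩
  have hWp : IsPGroup 2 ↥W := s.pgroup.to_le inf_le_left
  set x₁ : G ⧸ (Subgroup.centralizer ({z} : Set G)) := QuotientGroup.mk 1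
  have hval : cosetVal ψ e x₁ = ψ ⟨e, heH⟩ := by
    rw [cosetVal_mk ψ (a := e) (g := 1) (by simpa using heH)]
    exact congrArg ψ (Subtype.ext (by simp))
  have hsq : ∀ x : G ⧸ (Subgroup.centralizer ({z} : Set G)), cosetVal ψ e x * cosetVal ψ e x = 1 := by
    intro x
    unfold cosetVal
    split
    · rw [← map_mul]
      convert map_one ψ
      refine Subtype.ext ?_
      change x.out⁻¹ * e * x.out * (x.out⁻¹ * e * x.out) = 1
      calc _ = x.out⁻¹ * (e * e) * x.out := by group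
        _ = 1 := by rw [he2]; group
    · exact mul_one 1
  -- the orbits of `W` other than the one of the base point
  let f : G ⧸ (Subgroup.centralizer ({z} : Set G)) → Quotient (MulAction.orbitRel W (G ⧸ (Subgroup.centralizer ({z} : Set G)))) := Quotient.mk _
  letI : Fintype (Quotient (MulAction.orbitRel W (G ⧸ (Subgroup.centralizer ({z} : Set G))))) := Fintype.ofFinite _
  have hWH : ∀ w ∈ W, w ∈ (Subgroup.centralizer ({z} : Set G)) := fun w hw => s.le_cent (Subgroup.mem_inf.1 hw).1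
  have hinv : ∀ (w : W) (x : G ⧸ (Subgroup.centralizer ({z} : Set G))), cosetVal ψ e (w • x) = cosetVal ψ e x := by
    intro w x
    have hwe : (w : G) * e = e * w :=
      Subgroup.mem_centralizer_singleton_iff.1 (Subgroup.mem_inf.1 w.2).2
    change cosetVal ψ e ((w : G) • x) = _
    rw [← cosetVal_smul, show (w : G)⁻¹ * e * w = e by
      rw [mul_assoc, ← hwe, inv_mul_cancel_left]]
  rw [← Finset.prod_fiberwise Finset.univ f, Finset.prod_eq_single (f x₁)] at hV
  · rw [Finset.prod_eq_single x₁, hval] at hV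
    · exact hV
    · intro x hx hne
      obtain ⟨w, hwx⟩ : x ∈ MulAction.orbit W x₁ := by
        rw [← MulAction.orbitRel_apply]
        exact Quotient.exact (Finset.mem_filter.1 hx).2
      refine absurd ?_ hne
      rw [← hwx]
      change (w : G) • (QuotientGroup.mk (1 : G) : G ⧸ (Subgroup.centralizer ({z} : Set G))) = QuotientGroup.mk 1
      rw [MulAction.Quotient.smul_mk, smul_eq_mul, mul_one, eq_comm, QuotientGroup.eq]
      simpa using hWH _ w.2
    · simp
  swap
  · simp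
  intro o _ ho
  obtain ⟨x₀, rfl⟩ := Quotient.exists_rep o
  have hfib : ∀ x : G ⧸ (Subgroup.centralizer ({z} : Set G)), x ∈ Finset.univ.filter (fun x => f x = Quotient.mk _ x₀) →
      cosetVal ψ e x = cosetVal ψ e x₀ := by
    intro x hx
    obtain ⟨w, hwx⟩ : x ∈ MulAction.orbit W x₀ := by
      rw [← MulAction.orbitRel_apply]
      exact Quotient.exact (Finset.mem_filter.1 hx).2
    rw [← hwx, hinv]
  refine (Finset.prod_congr rfl hfib).trans ?_
  rw [Finset.prod_const]
  have horb : (Finset.univ.filter (fun x => f x = Quotient.mk _ x₀)).card =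
      Nat.card ↥(MulAction.orbit W x₀) := by
    rw [Nat.card_eq_fintype_card, ← Set.toFinset_card]
    congr 1
    ext x
    rw [Finset.mem_filter, Set.mem_toFinset, ← MulAction.orbitRel_apply]
    exact ⟨fun h => Quotient.exact h.2, fun h => ⟨Finset.mem_univ _, Quotient.sound h⟩⟩
  rw [horb]
  obtain ⟨k, hk⟩ := hWp.card_orbit x₀
  rw [hk]
  rcases Nat.eq_zero_or_pos k with rfl | hk0
  swap
  · obtain ⟨j, hj⟩ : 2 ∣ 2 ^ k := dvd_pow_self 2 (by omega)
    rw [hj, pow_mul, pow_two, hsq, one_pow]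
  -- a coset fixed by `W`
  rw [pow_zero, pow_one]
  have hfix : ∀ w ∈ W, (w : G) • x₀ = x₀ := by
    intro w hw
    rw [pow_zero] at hk
    haveI := (Nat.card_eq_one_iff_unique.1 hk).1
    exact congrArg Subtype.val (Subsingleton.elim
      (⟨(⟨w, hw⟩ : W) • x₀, MulAction.mem_orbit _ _⟩ : MulAction.orbit W x₀)
      ⟨x₀, MulAction.mem_orbit_self _⟩)
  set g := x₀.out with hg
  have hgW : ∀ w ∈ W, g⁻¹ * w * g ∈ (Subgroup.centralizer ({z} : Set G)) := fun w hw => conj_out_mem (hfix w hw)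
  set y := g * z * g⁻¹ with hy
  have hy1 : y ≠ 1 := fun h => s.z_ne (conj_eq_one_iff.1 h)
  have hy2 : y * y = 1 := by
    rw [hy, show g * z * g⁻¹ * (g * z * g⁻¹) = g * (z * z) * g⁻¹ by group, s.z_sq]; group
  have hyz : y ≠ z := by
    intro h
    apply ho
    refine Quotient.sound ?_
    have hgH : g ∈ (Subgroup.centralizer ({z} : Set G)) := Subgroup.mem_centralizer_singleton_iff.2 (by
      calc g * z = (g * z * g⁻¹) * g := by group
        _ = z * g := by rw [← hy, h])
    have : x₀ = x₁ := by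
      rw [← QuotientGroup.out_eq' x₀]
      exact (QuotientGroup.eq.2 (by simpa [← hg] using hgH)).symm
    rw [this]
  have hyW : ∀ w ∈ E, w * e = e * w → y * w = w * y := by
    intro w hw hwe
    have h1 := hgW w (Subgroup.mem_inf.2 ⟨hw, Subgroup.mem_centralizer_singleton_iff.2 hwe⟩)
    rw [Subgroup.mem_centralizer_singleton_iff] at h1
    calc y * w = g * (z * (g⁻¹ * w * g)) * g⁻¹ := by rw [hy]; group
      _ = g * ((g⁻¹ * w * g) * z) * g⁻¹ := by rw [h1]
      _ = w * y := by rw [hy]; group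
  have hzg : g⁻¹ * z * g ∈ (Subgroup.centralizer ({z} : Set G)) := by
    refine hgW z (Subgroup.mem_inf.2 ⟨s.z_mem, ?_⟩)
    exact Subgroup.mem_centralizer_singleton_iff.2 (s.z_comm he)
  have hzH : z ∈ (Subgroup.centralizer ({z} : Set G)) := Subgroup.mem_centralizer_singleton_iff.2 rfl
  have hz' : ψ ⟨g⁻¹ * z * g, hzg⟩ = 1 := by
    rw [show (⟨g⁻¹ * z * g, hzg⟩ : (Subgroup.centralizer ({z} : Set G))) = ⁅(⟨g⁻¹ * a * g, hgW a haW⟩ : ↥(Subgroup.centralizer ({z} : Set G))), (⟨g⁻¹ * b * g, hgW b hbW⟩ : ↥(Subgroup.centralizer ({z} : Set G)))⁆ from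
      Subtype.ext (by
        change g⁻¹ * z * g = ⁅g⁻¹ * a * g, g⁻¹ * b * g⁆
        rw [← hab, commutatorElement_def, commutatorElement_def]
        group),
      map_commutatorElement, commutatorElement_eq_one_iff_mul_comm, mul_comm]
  have heW : e ∈ W := Subgroup.mem_inf.2 ⟨he, Subgroup.mem_centralizer_singleton_iff.2 rfl⟩
  rw [cosetVal, dif_pos (hfix e heW)]
  rcases s.conj_mem_of_centralizing he he2 he1 hez ha hae hb hbe hab hy2 hy1 hyz hyW with h | h
  · rw [show (⟨g⁻¹ * e * g, conj_out_mem (hfix e heW)⟩ : (Subgroup.centralizer ({z} : Set G))) = ⟨z, hzH⟩ from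
      Subtype.ext (by change g⁻¹ * e * g = z; rw [← h, hy]; group)]
    exact map_z s ψ hzH
  · have he' : e = y * z := by rw [h, mul_assoc, s.z_sq, mul_one]
    rw [show (⟨g⁻¹ * e * g, conj_out_mem (hfix e heW)⟩ : (Subgroup.centralizer ({z} : Set G))) = ⟨z, hzH⟩ * ⟨g⁻¹ * z * g, hzg⟩ from
      Subtype.ext (by
        change g⁻¹ * e * g = z * (g⁻¹ * z * g)
        conv_lhs => rw [he', hy]
        group),
      map_mul, map_z s ψ hzH, hz', one_mul]

/-- Every homomorphism of `C(z)` to an abelian 2-group kills `E`. -/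
theorem le_ker (s : Setup z E) (ψ : ↥(Subgroup.centralizer ({z} : Set G)) →* A)
    (hA : IsPGroup 2 A) (hres : Cfsg.pResidual 2 G = ⊤) :
    E ≤ ψ.ker.map (Subgroup.centralizer ({z} : Set G)).subtype := by
  by_contra hlt
  have hzH : z ∈ Subgroup.centralizer ({z} : Set G) := Subgroup.mem_centralizer_singleton_iff.2 rfl
  have hzI : z ∈ ψ.ker.map (Subgroup.centralizer ({z} : Set G)).subtype :=
    ⟨⟨z, hzH⟩, map_z s ψ hzH, rfl⟩
  obtain ⟨e, he, he2, hne⟩ := s.exists_involution_notMem hzI hlt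
  rcases eq_or_ne e z with rfl | hez
  · exact hne hzI
  · exact hne ⟨⟨e, s.le_cent he⟩, map_involution s ψ hA hres he he2 hez (s.le_cent he), rfl⟩

end Cfsg.Agent.ExtraTransfer
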