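import Cfsg.Prelude.Def_Transfer
import Cfsg.Agent.Lib.Thompson.Cores

/-!
# Abelian images of a centralizer with 2-core of order eight
-/

set_option autoImplicit false
set_option linter.style.haveILetI false

namespace Cfsg.Agent.ExtraTransfer

open scoped commutatorElement

variable {H : Type*} [Group H] [Finite H]

/-- Conjugation on the quotient of a normal subgroup by its centre. -/
noncomputable def quotConj (E : Subgroup H) [E.Normal] :
    H →* MulAut (↥E ⧸ Subgroup.center ↥E) where
  toFun h := QuotientGroup.congr _ _ (MulAut.conjNormal h)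
    (Subgroup.characteristic_iff_map_eq.1 inferInstance (MulAut.conjNormal h))
  map_one' := MulEquiv.ext fun x => by
    obtain ⟨x, rfl⟩ := QuotientGroup.mk_surjective x
    simp
  map_mul' g h := MulEquiv.ext fun x => by
    obtain ⟨x, rfl⟩ := QuotientGroup.mk_surjective x
    show ((MulAut.conjNormal (g * h) x : E) : ↥E ⧸ Subgroup.center ↥E) =
      ((MulAut.conjNormal g (MulAut.conjNormal h x) : E) : ↥E ⧸ Subgroup.center ↥E)
    rw [map_mul, MulAut.mul_apply]

omit [Finite H] in
theorem quotConj_mk (E : Subgroup H) [E.Normal] (h : H) (x : E) :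
    quotConj E h (x : ↥E ⧸ Subgroup.center ↥E) =
      ((MulAut.conjNormal h x : E) : ↥E ⧸ Subgroup.center ↥E) := rfl

/-- If the 2-core is extraspecial of order eight and self-centralizing, squares of 2-elements
die in every abelian image. -/
theorem map_sq_eq_one_of_card_eight {A : Type*} [CommGroup A] (lam : H →* A) (E : Subgroup H)
    [E.Normal] (hcore : E = Cfsg.pCore 2 H) (hcard : Nat.card ↥E = 8)
    (hcenter : Nat.card (Subgroup.center ↥E) = 2) (hcomm : commutator ↥E = Subgroup.center ↥E)
    (hCE : Subgroup.centralizer (E : Set H) ≤ E) (h : H) (hh : ∃ k : ℕ, orderOf h = 2 ^ k) :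
    lam h ^ 2 = 1 := by
  classical
  haveI : Fact (Nat.Prime 2) := ⟨Nat.prime_two⟩
  haveI : Fact (Nat.Prime 3) := ⟨Nat.prime_three⟩
  set Q := ↥E ⧸ Subgroup.center ↥E
  set ψ := quotConj E with hψ
  have hQ : Nat.card Q = 4 := by
    have := Subgroup.card_eq_card_quotient_mul_card_subgroup (Subgroup.center ↥E)
    rw [hcard, hcenter] at this
    change Nat.card (↥E ⧸ Subgroup.center ↥E) = 4
    omega
  -- the centre dies
  have hZ : ∀ x : E, x ∈ Subgroup.center ↥E → lam x = 1 := by
    intro x hx
    rw [← hcomm] at hx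
    have h1 : commutator ↥E ≤ (lam.comp E.subtype).ker := Abelianization.commutator_subset_ker _
    exact h1 hx
  have hsqE : ∀ x : E, x * x ∈ Subgroup.center ↥E := by
    intro x
    rw [← QuotientGroup.eq_one_iff, QuotientGroup.mk_mul]
    have hnc : ¬ IsCyclic Q := by
      intro hc
      have hab := fun a b : E => commutative_of_cyclic_center_quotient (QuotientGroup.mk' (Subgroup.center ↥E))
        (by rw [QuotientGroup.ker_mk']) a b
      have : Subgroup.center ↥E = ⊤ := eq_top_iff.2 fun a _ => Subgroup.mem_center_iff.2 fun b => hab b a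
      rw [this, Subgroup.card_top, hcard] at hcenter
      omega
    by_contra hne
    refine hnc (isCyclic_of_orderOf_eq_card (x : Q) ?_)
    rw [hQ]
    have hdvd : orderOf (x : Q) ∣ 2 ^ 2 := (orderOf_dvd_natCard _).trans (dvd_of_eq (hQ.trans (by norm_num)))
    obtain ⟨k, hk, hk'⟩ := (Nat.dvd_prime_pow Nat.prime_two).1 hdvd
    interval_cases k
    · rw [pow_zero, orderOf_eq_one_iff] at hk'
      exact absurd (by rw [hk', one_mul]) hne
    · rw [pow_one] at hk'
      exact absurd (by rw [← pow_two, ← hk', pow_orderOf_eq_one]) hne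
    · exact hk'
  -- automorphisms of the quotient
  have hdvd6 : Nat.card (MulAut Q) ∣ 6 := by
    let res : MulAut Q →* Equiv.Perm {x : Q // x ≠ 1} :=
      { toFun := fun σ => Equiv.subtypeEquiv σ.toEquiv (fun x => by simp)
        map_one' := Equiv.ext fun x => rfl
        map_mul' := fun σ τ => Equiv.ext fun x => rfl }
    have hinj : Function.Injective res := by
      intro σ τ hστ
      refine MulEquiv.ext fun x => ?_
      by_cases hx : x = 1
      · rw [hx, map_one, map_one]
      · exact congrArg Subtype.val (DFunLike.congr_fun hστ ⟨x, hx⟩ :)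
    haveI : Fintype Q := Fintype.ofFinite Q
    refine (Subgroup.card_dvd_of_injective res hinj).trans ?_
    rw [Nat.card_perm, Nat.card_eq_fintype_card, Fintype.card_subtype_compl,
      Fintype.card_subtype_eq, ← Nat.card_eq_fintype_card, hQ]
    decide
  have hker : ψ.ker = E := by
    obtain ⟨a, b, hab⟩ : ∃ a b : E, a * b ≠ b * a := by
      by_contra hcon
      push Not at hcon
      have : Subgroup.center ↥E = ⊤ :=
        eq_top_iff.2 fun a _ => Subgroup.mem_center_iff.2 fun b => hcon b a
      rw [this, Subgroup.card_top, hcard] at hcenter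
      omega
    have hgen : Subgroup.closure ({a, b} : Set E) = ⊤ := by
      refine Subgroup.eq_top_of_card_eq _ ?_
      set L := Subgroup.closure ({a, b} : Set E)
      have hdvd : Nat.card L ∣ 2 ^ 3 := by
        have := Subgroup.card_subgroup_dvd_card L
        rw [hcard] at this
        exact this
      obtain ⟨k, hk, hk'⟩ := (Nat.dvd_prime_pow Nat.prime_two).1 hdvd
      have hmem : a ∈ L ∧ b ∈ L :=
        ⟨Subgroup.subset_closure (by simp), Subgroup.subset_closure (by simp)⟩
      rcases (by omega : k ≤ 1 ∨ k = 2 ∨ k = 3) with hk2 | rfl | rfl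
      · exfalso
        apply hab
        haveI : IsCyclic L := by
          interval_cases k
          · rw [pow_zero] at hk'
            haveI := (Nat.card_eq_one_iff_unique.1 hk').1
            exact isCyclic_of_subsingleton
          · exact isCyclic_of_prime_card (p := 2) hk'
        letI := IsCyclic.commGroup (α := L)
        exact congrArg Subtype.val (mul_comm (⟨a, hmem.1⟩ : L) ⟨b, hmem.2⟩)
      · exact absurd (congrArg Subtype.val
          ((IsPGroup.commutative_of_card_eq_prime_sq (p := 2) hk') (⟨a, hmem.1⟩ : L) ⟨b, hmem.2⟩)) hab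
      · rw [hk', hcard]; norm_num
    refine (Subgroup.eq_of_le_of_card_ge (fun e he => ?_) ?_).symm
    · refine MonoidHom.mem_ker.2 (MulEquiv.ext fun x => ?_)
      obtain ⟨x, rfl⟩ := QuotientGroup.mk_surjective x
      rw [hψ, quotConj_mk, MulAut.one_apply, QuotientGroup.eq, ← hcomm]
      have e1 : (MulAut.conjNormal e x)⁻¹ * x = ⁅(⟨e, he⟩ : E), x⁻¹⁆ :=
        Subtype.ext (by simp [commutatorElement_def, MulAut.conjNormal_apply, mul_assoc])
      rw [e1, commutator_def]
      exact Subgroup.commutator_mem_commutator (Subgroup.mem_top _) (Subgroup.mem_top _)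
    · rw [hcard]
      -- an element of the kernel is determined modulo `C(E)` by its effect on two generators
      have hzz : Nat.card ↥(Subgroup.centralizer (E : Set H)) ≤ 2 := by
        rw [← hcenter]
        refine Nat.card_le_card_of_injective
          (fun x => (⟨⟨x, hCE x.2⟩, Subgroup.mem_center_iff.2 fun y =>
            Subtype.ext (Subgroup.mem_centralizer_iff.1 x.2 y y.2)⟩ : Subgroup.center ↥E)) ?_
        intro x y hxy
        exact Subtype.ext (congrArg (fun w : Subgroup.center ↥E => ((w : E) : H)) hxy)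
      set K := ψ.ker
      let Φ : K → Subgroup.center ↥E × Subgroup.center ↥E := fun k =>
        (⟨a⁻¹ * MulAut.conjNormal (k : H) a, by
            have h1 : ψ k (a : Q) = (a : Q) := by rw [MonoidHom.mem_ker.1 k.2]; rfl
            rw [hψ, quotConj_mk, eq_comm, QuotientGroup.eq] at h1
            exact h1⟩,
         ⟨b⁻¹ * MulAut.conjNormal (k : H) b, by
            have h1 : ψ k (b : Q) = (b : Q) := by rw [MonoidHom.mem_ker.1 k.2]; rfl
            rw [hψ, quotConj_mk, eq_comm, QuotientGroup.eq] at h1
            exact h1⟩)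
      let C := (Subgroup.centralizer (E : Set H)).subgroupOf K
      have hC : ∀ k k' : K, Φ k = Φ k' → k⁻¹ * k' ∈ C := by
        intro k k' hkk
        have ha' : MulAut.conjNormal (k : H) a = MulAut.conjNormal (k' : H) a :=
          mul_left_cancel (congrArg Subtype.val (congrArg Prod.fst hkk) :)
        have hb' : MulAut.conjNormal (k : H) b = MulAut.conjNormal (k' : H) b :=
          mul_left_cancel (congrArg Subtype.val (congrArg Prod.snd hkk) :)
        set m : H := (k : H)⁻¹ * k' with hm
        have hfix : ∀ x : E, x ∈ Subgroup.closure ({a, b} : Set E) →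
            MulAut.conjNormal m x = x := by
          intro x hx
          induction hx using Subgroup.closure_induction with
          | mem x hx =>
            rw [hm, map_mul, map_inv, MulAut.mul_apply]
            rcases hx with rfl | rfl
            · rw [← ha', MulAut.inv_apply_self]
            · rw [← hb', MulAut.inv_apply_self]
          | one => exact map_one _
          | mul x y _ _ hx hy => rw [map_mul, hx, hy]
          | inv x _ hx => rw [map_inv, hx]
        refine Subgroup.mem_centralizer_iff.2 fun x hx => ?_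
        have h1 := congrArg Subtype.val (hfix ⟨x, hx⟩ (hgen ▸ Subgroup.mem_top _))
        rw [MulAut.conjNormal_apply] at h1
        exact (mul_inv_eq_iff_eq_mul.1 h1).symm
      let rep : Set.range Φ → K := fun v => v.2.choose
      have hrep : ∀ v : Set.range Φ, Φ (rep v) = v := fun v => v.2.choose_spec
      let Ψ : K → Set.range Φ × C := fun k =>
        (⟨Φ k, k, rfl⟩, ⟨(rep ⟨Φ k, k, rfl⟩)⁻¹ * k, hC _ _ (hrep ⟨Φ k, k, rfl⟩)⟩)
      have hΨ : Function.Injective Ψ := by
        intro k k' hkk
        have h1 : (⟨Φ k, k, rfl⟩ : Set.range Φ) = ⟨Φ k', k', rfl⟩ := congrArg Prod.fst hkk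
        have h2 : (rep ⟨Φ k, k, rfl⟩)⁻¹ * k = (rep ⟨Φ k', k', rfl⟩)⁻¹ * k' :=
          congrArg Subtype.val (congrArg Prod.snd hkk)
        rw [h1] at h2
        exact mul_left_cancel h2
      refine (Nat.card_le_card_of_injective Ψ hΨ).trans ?_
      rw [Nat.card_prod]
      refine (Nat.mul_le_mul (Finite.card_subtype_le _)
        ((Nat.card_le_card_of_injective (fun c : C => (⟨((c : K) : H), c.2⟩ :
          ↥(Subgroup.centralizer (E : Set H)))) fun c d hcd =>
            Subtype.ext (Subtype.ext (congrArg (fun w : ↥(Subgroup.centralizer (E : Set H)) => (w : H)) hcd))).trans hzz)).trans ?_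
      rw [Nat.card_prod, hcenter]
  have hh2 : h ^ 2 ∈ E := by
    rw [← hker]
    refine MonoidHom.mem_ker.2 ?_
    obtain ⟨k, hk⟩ := hh
    have h1 : orderOf (ψ h) ∣ 2 ^ k := hk ▸ orderOf_map_dvd ψ h
    have h2 : orderOf (ψ h) ∣ 6 := (orderOf_dvd_natCard _).trans hdvd6
    have h3 : orderOf (ψ h) ∣ 2 := by
      refine (Nat.Coprime.dvd_of_dvd_mul_right (k := orderOf (ψ h)) (n := 3) ?_
        (show orderOf (ψ h) ∣ 2 * 3 from h2))
      exact Nat.Coprime.coprime_dvd_left h1 (Nat.Coprime.pow_left k (by decide))
    rw [map_pow]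
    exact orderOf_dvd_iff_pow_eq_one.1 h3
  rw [← map_pow]
  by_cases h3 : 3 ∣ Nat.card ψ.range
  · obtain ⟨⟨σ, r, hr⟩, hσ⟩ := exists_prime_orderOf_dvd_card' 3 h3
    replace hσ : orderOf σ = 3 :=
      (orderOf_injective ψ.range.subtype Subtype.coe_injective ⟨σ, r, hr⟩).trans hσ
    have hfix : ∀ u : Q, σ u = u → u = 1 := by
      intro u hu
      by_contra hu1
      let F : Subgroup Q := σ.toMonoidHom.eqLocus (MonoidHom.id Q)
      have hF4 : F = ⊤ := by
        have hP : IsPGroup 3 ↥(Subgroup.zpowers σ) :=
          IsPGroup.of_card (n := 1) (by rw [Nat.card_zpowers, hσ, pow_one])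
        have hmod := hP.card_modEq_card_fixedPoints (α := Q)
        have hfp : MulAction.fixedPoints ↥(Subgroup.zpowers σ) Q = (F : Set Q) := by
          ext x
          constructor
          · intro hx
            exact hx ⟨σ, Subgroup.mem_zpowers σ⟩
          · intro (hx : σ x = x)
            rintro ⟨τ, hτ⟩
            exact (Subgroup.zpowers_le.2 (show σ ∈ MulAction.stabilizer (MulAut Q) x from hx)) hτ
        rw [hfp, hQ] at hmod
        have hcardF := (Nat.dvd_prime_pow Nat.prime_two).1
          (show Nat.card F ∣ 2 ^ 2 from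
            (Subgroup.card_subgroup_dvd_card F).trans (dvd_of_eq (hQ.trans (by norm_num))))
        obtain ⟨k, hk, hk'⟩ := hcardF
        have hF : Nat.card (F : Set Q) = 2 ^ k := hk'
        rw [hF] at hmod
        interval_cases k
        · exfalso
          rw [pow_zero] at hk'
          haveI := (Nat.card_eq_one_iff_unique.1 hk').1
          exact hu1 (congrArg Subtype.val (Subsingleton.elim (⟨u, hu⟩ : F) 1))
        · exact absurd hmod (by decide)
        · exact Subgroup.eq_top_of_card_eq _ (by rw [hk', hQ]; norm_num)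
      have : σ = 1 := MulEquiv.ext fun x => (hF4 ▸ Subgroup.mem_top x : x ∈ F)
      rw [this, orderOf_one] at hσ
      omega
    haveI : IsMulCommutative Q := ⟨⟨fun x y => by
      letI := IsPGroup.commGroupOfCardEqPrimeSq (p := 2) (G := Q) hQ
      exact mul_comm x y⟩⟩
    have hinj : Function.Injective (fun u : Q => u⁻¹ * σ u) := by
      intro u v huv
      simp only at huv
      refine inv_mul_eq_one.1 (hfix (u⁻¹ * v) ?_)
      rw [map_mul, map_inv]
      calc (σ u)⁻¹ * σ v = (σ u)⁻¹ * v * (v⁻¹ * σ v) := by group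
        _ = (σ u)⁻¹ * v * (u⁻¹ * σ u) := by rw [huv]
        _ = u⁻¹ * v := by
          rw [show (σ u)⁻¹ * v = v * (σ u)⁻¹ from mul_comm' _ _]
          rw [show v * (σ u)⁻¹ * (u⁻¹ * σ u) = v * ((σ u)⁻¹ * (u⁻¹ * σ u)) from mul_assoc _ _ _,
            show (σ u)⁻¹ * (u⁻¹ * σ u) = u⁻¹ from by
              rw [mul_comm' u⁻¹ (σ u), inv_mul_cancel_left],
            mul_comm' v u⁻¹]
    obtain ⟨u, hu⟩ := (Finite.injective_iff_surjective.1 hinj) ((⟨h ^ 2, hh2⟩ : E) : Q)
    obtain ⟨u, rfl⟩ := QuotientGroup.mk_surjective u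
    rw [← hr, hψ] at hu
    replace hu : ((u⁻¹ * MulAut.conjNormal r u : E) : Q) = ((⟨h ^ 2, hh2⟩ : E) : Q) := hu
    rw [QuotientGroup.eq] at hu
    have h1 := hZ _ hu
    simp only [Subgroup.coe_mul, Subgroup.coe_inv, MulAut.conjNormal_apply, map_mul, map_inv] at h1
    simpa [mul_comm, mul_left_comm, mul_assoc] using h1
  · have htwo : IsPGroup 2 H := by
      have hr : Nat.card ψ.range ∣ 2 :=
        (Nat.Coprime.dvd_of_dvd_mul_right ((Nat.prime_three.coprime_iff_not_dvd.2 h3).symm)
          (show Nat.card ψ.range ∣ 2 * 3 from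
            (Subgroup.card_subgroup_dvd_card _).trans hdvd6))
      have hH : Nat.card H ∣ 2 ^ 4 := by
        rw [Subgroup.card_eq_card_quotient_mul_card_subgroup ψ.ker,
          Nat.card_congr (QuotientGroup.quotientKerEquivRange ψ).toEquiv, hker, hcard]
        exact (Nat.mul_dvd_mul hr (dvd_refl 8)).trans (by norm_num)
      obtain ⟨k, -, hk⟩ := (Nat.dvd_prime_pow Nat.prime_two).1 hH
      exact IsPGroup.of_card hk
    have hEtop : h ∈ E := by
      rw [hcore]
      exact le_sSup (show (⊤ : Subgroup H) ∈ {N : Subgroup H | N.Normal ∧ IsPGroup 2 N} from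
        ⟨inferInstance, htwo.to_subgroup ⊤⟩) (Subgroup.mem_top h)
    have := hZ _ (hsqE ⟨h, hEtop⟩)
    rw [pow_two]
    have e : h ^ 2 = h * h := pow_two h
    simpa [e] using this

end Cfsg.Agent.ExtraTransfer
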