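import Cfsg.Agent.ExtraTransfer.Cocycle
import Cfsg.Agent.ExtraTransfer.Counting
import Cfsg.Agent.ExtraTransfer.Main
import Mathlib.GroupTheory.Transfer

/-!
# Vanishing of a homomorphism of `C(z)` to a group of order two
-/

set_option autoImplicit false
set_option linter.style.haveILetI false

namespace Cfsg.Agent.ExtraTransfer

open scoped commutatorElement

variable {G : Type*} [Group G]

section Tau

variable {H : Subgroup G}

theorem out_smul_mem (a : G) (x : G ⧸ H) : (a • x).out⁻¹ * a * x.out ∈ H := by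
  have h : (QuotientGroup.mk (a • x).out : G ⧸ H) = QuotientGroup.mk (a * x.out) := by
    rw [QuotientGroup.out_eq', ← smul_eq_mul, ← MulAction.Quotient.smul_mk, QuotientGroup.out_eq']
  rw [QuotientGroup.eq, ← mul_assoc] at h
  exact h

/-- The transfer cocycle. -/
noncomputable def tau (μ : H →* Multiplicative (ZMod 2)) (a : G) (x : G ⧸ H) : ZMod 2 :=
  Multiplicative.toAdd (μ ⟨(a • x).out⁻¹ * a * x.out, out_smul_mem a x⟩)

theorem tau_isCocycle (μ : H →* Multiplicative (ZMod 2)) : IsCocycle (tau μ) := by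
  intro a b x
  unfold tau
  rw [← toAdd_mul, ← map_mul]
  refine congrArg (fun h => Multiplicative.toAdd (μ h)) (Subtype.ext ?_)
  show ((a * b) • x).out⁻¹ * (a * b) * x.out =
    (a • b • x).out⁻¹ * a * (b • x).out * ((b • x).out⁻¹ * b * x.out)
  rw [mul_smul]
  group

theorem tau_of_fixed (μ : H →* Multiplicative (ZMod 2)) {a : G} {x : G ⧸ H} (h : a • x = x) :
    ∃ hm : x.out⁻¹ * a * x.out ∈ H,
      tau μ a x = Multiplicative.toAdd (μ ⟨x.out⁻¹ * a * x.out, hm⟩) :=
  ⟨LocalEven61.conj_out_mem h, congrArg (fun k => Multiplicative.toAdd (μ k))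
    (Subtype.ext (congrArg (fun q : G ⧸ H => q.out⁻¹ * a * x.out) h))⟩

theorem toAdd_transfer [Finite G] [Fintype (G ⧸ H)] (μ : H →* Multiplicative (ZMod 2)) (a : G) :
    Multiplicative.toAdd (MonoidHom.transfer μ a) = ∑ x : G ⧸ H, tau μ a x := by
  classical
  cases Subsingleton.elim ‹Fintype (G ⧸ H)› H.fintypeQuotientOfFiniteIndex
  letI : Fintype (G ⧸ H) := H.fintypeQuotientOfFiniteIndex
  have hcoe : ∀ q : G ⧸ H, (QuotientGroup.mk q.out : G ⧸ H) = q := QuotientGroup.out_eq'
  let T : H.LeftTransversal :=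
    ⟨Set.range (fun q : G ⧸ H => q.out), Subgroup.isComplement_range_left hcoe⟩
  have hT : ∀ q : G ⧸ H, (T.2.leftQuotientEquiv q : G) = q.out := fun q =>
    Subgroup.IsComplement.leftQuotientEquiv_apply hcoe q
  rw [MonoidHom.transfer_def μ T a, Subgroup.leftTransversals.diff, toAdd_prod]
  symm
  refine Fintype.sum_equiv (MulAction.toPerm a) _ _ fun x => ?_
  unfold tau
  refine congrArg (fun k => Multiplicative.toAdd (μ k)) (Subtype.ext ?_)
  show (a • x).out⁻¹ * a * x.out =
    ((T.2.leftQuotientEquiv (a • x) : G))⁻¹ * ((a • T).2.leftQuotientEquiv (a • x) : G)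
  rw [Subgroup.smul_apply_eq_smul_apply_inv_smul, hT, hT, inv_smul_smul, smul_eq_mul, mul_assoc]

end Tau

variable [Finite G] {z : G} {E : Subgroup G}

/-- `μ` is trivial on a 2-subgroup of `C(z)` containing `E` as soon as it is trivial on the
centralizer in `E` of each conjugate of `z` centralizing a subgroup of index two of `E`,
and `μ` kills the conjugates of `z` in `C(z)` unless `E` has order above 32. -/
theorem map_eq_one_of_index_two (s : Setup z E) (hres : Cfsg.pResidual 2 G = ⊤)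
    (μ : ↥(Subgroup.centralizer ({z} : Set G)) →* Multiplicative (ZMod 2))
    (hzbig : (∀ (g : G) (hm : g⁻¹ * z * g ∈ Subgroup.centralizer ({z} : Set G)),
      μ ⟨_, hm⟩ = 1) ∨ 32 < Nat.card ↥E)
    (h0 : ∀ (g y : G), y = g * z * g⁻¹ → y ∈ E → y ≠ z →
      (∀ (hm : g⁻¹ * z * g ∈ Subgroup.centralizer ({z} : Set G)), μ ⟨_, hm⟩ = 1) →
      ∀ k ∈ E, k * y = y * k →
        ∀ (hm : g⁻¹ * k * g ∈ Subgroup.centralizer ({z} : Set G)), μ ⟨_, hm⟩ = 1)
    (T : Subgroup G) (hT : IsPGroup 2 ↥T) (hTH : T ≤ Subgroup.centralizer {z}) (hET : E ≤ T)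
    (a : G) (ha : a ∈ T) : μ ⟨a, hTH ha⟩ = 1 := by
  classical
  haveI : Fact (Nat.Prime 2) := ⟨Nat.prime_two⟩
  let H := Subgroup.centralizer ({z} : Set G)
  letI : Fintype (G ⧸ H) := Fintype.ofFinite _
  have hA : IsPGroup 2 (Multiplicative (ZMod 2)) :=
    IsPGroup.of_card (n := 1) (by simp [Nat.card_eq_fintype_card])
  have hV : ∑ x : G ⧸ H, tau μ a x = 0 := by
    rw [← toAdd_transfer, Cfsg.Agent.Transfer.pResidual_le_ker (MonoidHom.transfer μ) hA
      (show a ∈ Cfsg.pResidual 2 G by rw [hres]; exact Subgroup.mem_top a)]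
    rfl
  set x₁ : G ⧸ H := QuotientGroup.mk 1 with hx₁
  let f : G ⧸ H → Quotient (MulAction.orbitRel T (G ⧸ H)) := Quotient.mk _
  letI : Fintype (Quotient (MulAction.orbitRel T (G ⧸ H))) := Fintype.ofFinite _
  have hbase : ∀ (b : T), (b : G) • x₁ = x₁ := fun b => by
    rw [hx₁, MulAction.Quotient.smul_mk, smul_eq_mul, mul_one, eq_comm, QuotientGroup.eq]
    simpa using hTH b.2
  have hval : tau μ a x₁ = Multiplicative.toAdd (μ ⟨a, hTH ha⟩) := by
    obtain ⟨hm, he⟩ := tau_of_fixed μ (show a • x₁ = x₁ from hbase ⟨a, ha⟩)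
    rw [he]
    obtain ⟨h, hh⟩ := QuotientGroup.mk_out_eq_mul H 1
    rw [one_mul] at hh
    have e : (⟨_, hm⟩ : H) = h⁻¹ * ⟨a, hTH ha⟩ * h := Subtype.ext (by
      simp only [Subgroup.coe_mul, Subgroup.coe_inv]
      rw [← hh])
    refine congrArg Multiplicative.toAdd ?_
    rw [e, map_mul, map_mul, mul_comm, ← mul_assoc, ← map_mul, mul_inv_cancel, map_one, one_mul]
  rw [← Finset.sum_fiberwise Finset.univ f, Finset.sum_eq_single (f x₁)] at hV
  · rw [Finset.sum_eq_single x₁, hval] at hV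
    · exact toAdd_eq_zero.1 hV
    · intro x hx hne
      obtain ⟨b, hb⟩ : x ∈ MulAction.orbit T x₁ := by
        rw [← MulAction.orbitRel_apply]
        exact Quotient.exact (Finset.mem_filter.1 hx).2
      exact absurd (hb.symm.trans (hbase b)) hne
    · simp
  swap
  · simp
  intro o _ ho
  obtain ⟨x₀, rfl⟩ := Quotient.exists_rep o
  have hmem : ∀ x : G ⧸ H, x ∈ Finset.univ.filter (fun x => f x = Quotient.mk _ x₀) ↔
      x ∈ MulAction.orbit T x₀ := fun x => by
    rw [Finset.mem_filter, ← MulAction.orbitRel_apply]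
    exact ⟨fun h => Quotient.exact h.2, fun h => ⟨Finset.mem_univ _, Quotient.sound h⟩⟩
  rw [Finset.sum_subtype _ hmem]
  have hOb : ∀ x : MulAction.orbit T x₀, (x : G ⧸ H) ≠ x₁ := by
    rintro ⟨x, hx⟩ h
    refine ho (Eq.trans ?_ (congrArg f h))
    exact (Quotient.sound (MulAction.orbitRel_apply.2 hx)).symm
  -- the conjugate of `z` attached to a coset
  let yv : G ⧸ H → G := fun x => x.out * z * x.out⁻¹
  have hfix : ∀ (k : G) (x : G ⧸ H), k • x = x → k * yv x = yv x * k := by
    intro k x h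
    have h1 := Subgroup.mem_centralizer_singleton_iff.1 (LocalEven61.conj_out_mem h)
    calc k * yv x = x.out * ((x.out⁻¹ * k * x.out) * z) * x.out⁻¹ := by
          simp only [yv]; group
      _ = x.out * (z * (x.out⁻¹ * k * x.out)) * x.out⁻¹ := by rw [h1]
      _ = yv x * k := by simp only [yv]; group
  have hfix' : ∀ (k : G) (x : G ⧸ H), k * yv x = yv x * k → k • x = x := by
    intro k x h
    conv_lhs => rw [← QuotientGroup.out_eq' x]
    conv_rhs => rw [← QuotientGroup.out_eq' x]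
    rw [MulAction.Quotient.smul_mk, smul_eq_mul, eq_comm, QuotientGroup.eq, ← mul_assoc]
    refine Subgroup.mem_centralizer_singleton_iff.2 ?_
    calc x.out⁻¹ * k * x.out * z = x.out⁻¹ * (k * yv x) * x.out := by simp only [yv]; group
      _ = x.out⁻¹ * (yv x * k) * x.out := by rw [h]
      _ = z * (x.out⁻¹ * k * x.out) := by simp only [yv]; group
  have hy : ∀ x : G ⧸ H, x ≠ x₁ → yv x * yv x = 1 ∧ yv x ≠ 1 ∧ yv x ≠ z := by
    intro x hx
    refine ⟨?_, fun h => s.z_ne (conj_eq_one_iff.1 h), fun h => hx ?_⟩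
    · simp only [yv]
      rw [show x.out * z * x.out⁻¹ * (x.out * z * x.out⁻¹) = x.out * (z * z) * x.out⁻¹ by group,
        s.z_sq]
      group
    · have hgH : x.out ∈ H := Subgroup.mem_centralizer_singleton_iff.2 (by
        calc x.out * z = yv x * x.out := by simp only [yv]; group
          _ = z * x.out := by rw [h])
      rw [← QuotientGroup.out_eq' x]
      exact (QuotientGroup.eq.2 (by simpa using hgH)).symm
  let E' : Subgroup T := E.subgroupOf T
  haveI : E'.Normal := ⟨fun k hk b => s.normal b (hTH b.2) k hk⟩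
  let zT : T := ⟨z, hET s.z_mem⟩
  have hc : IsCocycle (fun (b : T) (x : MulAction.orbit T x₀) => tau μ (b : G) (x : G ⧸ H)) :=
    fun b b' x => tau_isCocycle μ (b : G) (b' : G) (x : G ⧸ H)
  refine cocycle_sum_eq_zero (c := fun (b : T) (x : MulAction.orbit T x₀) =>
    tau μ (b : G) (x : G ⧸ H)) hT E' zT ?_ ?_ ?_ ?_ hc ?_ ?_ ?_ ⟨a, ha⟩
  · exact fun b => Subtype.ext (Subgroup.mem_centralizer_singleton_iff.1 (hTH b.2)).symm
  · exact Subtype.ext s.z_sq
  · intro e he
    exact (s.sq e he).imp (fun h => Subtype.ext h) fun h => Subtype.ext h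
  · intro e he k hk
    by_cases h : (k : G) * e = e * k
    · exact ⟨1, Or.inl rfl, Subtype.ext (by simpa using h)⟩
    · refine ⟨zT, Or.inr rfl, Subtype.ext ?_⟩
      show (k : G) * e = e * (k * z)
      have h1 : (k : G) * e * (k : G)⁻¹ = z * e := s.conj_eq hk he h
      calc (k : G) * e = ((k : G) * e * (k : G)⁻¹) * k := by group
        _ = z * ((e : G) * k) := by rw [h1, mul_assoc]
        _ = e * (k * z) := by
            rw [show z * ((e : G) * k) = (e : G) * k * z from s.z_comm (mul_mem he hk), mul_assoc]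
  · intro x
    by_contra hcon
    push Not at hcon
    have hx := hy x (hOb x)
    refine (s.cent (yv (x : G ⧸ H)) fun e he => ?_).elim hx.2.1 hx.2.2
    exact (hfix e x (congrArg Subtype.val (hcon ⟨e, hET he⟩ he))).symm
  · intro x x' hzx hcz hcov k hk hkx
    have hx := hy x (hOb x)
    set y := yv (x : G ⧸ H) with hydef
    set D := E ⊓ Subgroup.centralizer {y} with hD
    have hzy : z * y = y * z := hfix z x (congrArg Subtype.val hzx)
    obtain ⟨f, hf, hfD⟩ : ∃ f ∈ E, f * y ≠ y * f := by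
      by_contra h
      push Not at h
      exact (s.cent y fun e he => (h e he).symm).elim hx.2.1 hx.2.2
    have hmemE : y ∈ E := by
      refine s.mem_of_centralizing (D := D) inf_le_left
        ⟨s.z_mem, Subgroup.mem_centralizer_singleton_iff.2 hzy⟩ hf (fun e he => ?_) hx.1 hx.2.1
        hx.2.2 fun d hd => (Subgroup.mem_centralizer_singleton_iff.1 hd.2).symm
      by_cases he' : e * y = y * e
      · exact Or.inl ⟨he, Subgroup.mem_centralizer_singleton_iff.2 he'⟩
      · refine Or.inr (Subgroup.mem_inf.2 ⟨E.mul_mem (E.inv_mem hf) he, Subgroup.mem_centralizer_singleton_iff.2 ?_⟩)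
        refine hfix _ _ ?_
        have e1 : (⟨e, hET he⟩ : T) • x = x' := (hcov _ he).resolve_left fun h =>
          he' (hfix e x (congrArg Subtype.val h))
        have e2 : (⟨f, hET hf⟩ : T) • x = x' := (hcov _ hf).resolve_left fun h =>
          hfD (hfix f x (congrArg Subtype.val h))
        have e3 : (⟨f, hET hf⟩ : T)⁻¹ • (⟨e, hET he⟩ : T) • x = x := by
          rw [e1, ← e2, inv_smul_smul]
        rw [mul_smul]
        exact congrArg Subtype.val e3
    obtain ⟨hm, he⟩ := tau_of_fixed μ (show (k : G) • (x : G ⧸ H) = x from congrArg Subtype.val hkx)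
    show tau μ (k : G) (x : G ⧸ H) = 0
    rw [he, toAdd_eq_zero]
    refine h0 _ y rfl hmemE hx.2.2 (fun hm' => ?_) k hk (hfix k x (congrArg Subtype.val hkx)) hm
    obtain ⟨hm'', he''⟩ := tau_of_fixed μ (show z • (x : G ⧸ H) = x from congrArg Subtype.val hzx)
    exact toAdd_eq_zero.1 (he''.symm.trans hcz)
  · intro x y₁ y₂ y₃ hzx hcz hcov
    have hx := hy x (hOb x)
    set y := yv (x : G ⧸ H) with hydef
    set D := E ⊓ Subgroup.centralizer {y} with hD
    obtain ⟨hmz, hez⟩ := tau_of_fixed μ (show z • (x : G ⧸ H) = x from congrArg Subtype.val hzx)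
    have hne : μ ⟨_, hmz⟩ ≠ 1 := fun h => by
      have h1 : (1 : ZMod 2) = 0 := hcz.symm.trans (hez.trans (by rw [h]; rfl))
      exact one_ne_zero h1
    have hbig : 32 < Nat.card ↥E := hzbig.resolve_left fun h => hne (h _ hmz)
    have hDH : ∀ d ∈ D, (x : G ⧸ H).out⁻¹ * d * (x : G ⧸ H).out ∈ H := fun d hd =>
      LocalEven61.conj_out_mem (hfix' d x (Subgroup.mem_centralizer_singleton_iff.1 hd.2))
    have hab : ∀ p ∈ D, ∀ q ∈ D, p * q = q * p := by
      intro p hp q hq
      rcases s.comm p hp.1 q hq.1 with h | h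
      · exact commutatorElement_eq_one_iff_mul_comm.1 h
      · refine absurd ?_ hne
        rw [show (⟨_, hmz⟩ : H) = ⁅(⟨_, hDH p hp⟩ : H), (⟨_, hDH q hq⟩ : H)⁆ from
          Subtype.ext (by
            change _ = ⁅(x : G ⧸ H).out⁻¹ * p * (x : G ⧸ H).out,
              (x : G ⧸ H).out⁻¹ * q * (x : G ⧸ H).out⁆
            calc (x : G ⧸ H).out⁻¹ * z * (x : G ⧸ H).out
                = (x : G ⧸ H).out⁻¹ * ⁅p, q⁆ * (x : G ⧸ H).out :=
                  congrArg (fun w => (x : G ⧸ H).out⁻¹ * w * (x : G ⧸ H).out) h.symm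
              _ = _ := by rw [commutatorElement_def, commutatorElement_def]; group),
          map_commutatorElement, commutatorElement_eq_one_iff_mul_comm, mul_comm]
    have hrep : ∀ y' : MulAction.orbit T x₀, ∃ f : G, ∀ e (he : e ∈ E),
        (⟨e, hET he⟩ : T) • x = y' → f⁻¹ * e ∈ D := by
      intro y'
      by_cases h : ∃ e, ∃ he : e ∈ E, (⟨e, hET he⟩ : T) • x = y'
      · obtain ⟨f, hf, hfx⟩ := h
        refine ⟨f, fun e he hex => Subgroup.mem_inf.2 ⟨E.mul_mem (E.inv_mem hf) he,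
          Subgroup.mem_centralizer_singleton_iff.2 (hfix _ _ ?_)⟩⟩
        have e3 : (⟨f, hET hf⟩ : T)⁻¹ • (⟨e, hET he⟩ : T) • x = x := by
          rw [hex, ← hfx, inv_smul_smul]
        rw [mul_smul]
        exact congrArg Subtype.val e3
      · exact ⟨1, fun e he hex => absurd ⟨e, he, hex⟩ h⟩
    choose r hr using hrep
    have h4 : Nat.card ↥E ≤ 4 * Nat.card ↥D := by
      refine (card_le_of_cover ({r x, r y₁, r y₂, r y₃} : Finset G) fun e he => ?_).trans
        (Nat.mul_le_mul_right _ Finset.card_le_four)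
      rcases hcov (⟨e, hET he⟩ : T) he with h | h | h | h
      · exact ⟨_, by simp, hr x e he h⟩
      · exact ⟨_, by simp, hr y₁ e he h⟩
      · exact ⟨_, by simp, hr y₂ e he h⟩
      · exact ⟨_, by simp, hr y₃ e he h⟩
    have h5 := s.abelian_card_le (D := D) inf_le_left hab
    have h6 := Nat.mul_le_mul h4 h4
    nlinarith [hbig, h5, h6]

/-- The same, on all of `C(z)`. -/
theorem eq_one_of_index_two (s : Setup z E) (hres : Cfsg.pResidual 2 G = ⊤)
    (μ : ↥(Subgroup.centralizer ({z} : Set G)) →* Multiplicative (ZMod 2))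
    (hzbig : (∀ (g : G) (hm : g⁻¹ * z * g ∈ Subgroup.centralizer ({z} : Set G)),
      μ ⟨_, hm⟩ = 1) ∨ 32 < Nat.card ↥E)
    (h0 : ∀ (g y : G), y = g * z * g⁻¹ → y ∈ E → y ≠ z →
      (∀ (hm : g⁻¹ * z * g ∈ Subgroup.centralizer ({z} : Set G)), μ ⟨_, hm⟩ = 1) →
      ∀ k ∈ E, k * y = y * k →
        ∀ (hm : g⁻¹ * k * g ∈ Subgroup.centralizer ({z} : Set G)), μ ⟨_, hm⟩ = 1) :
    μ = 1 := by
  haveI : Fact (Nat.Prime 2) := ⟨Nat.prime_two⟩
  let H := Subgroup.centralizer ({z} : Set G)
  obtain ⟨P, hP⟩ := (s.pgroup.of_equiv (Subgroup.subgroupOfEquivOfLe s.le_cent).symm :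
    IsPGroup 2 ↥(E.subgroupOf H)).exists_le_sylow
  have hker : (P : Subgroup H) ≤ μ.ker := fun p hp =>
    map_eq_one_of_index_two s hres μ hzbig h0 ((P : Subgroup H).map H.subtype)
      (P.isPGroup'.map _) (Subgroup.map_subtype_le _)
      (fun e he => ⟨⟨e, s.le_cent he⟩, hP he, rfl⟩) (p : G) ⟨p, hp, rfl⟩
  refine MonoidHom.ker_eq_top_iff.1 (Subgroup.index_eq_one.1 ?_)
  have h1 : μ.ker.index ∣ (P : Subgroup H).index := Subgroup.index_dvd_of_le hker
  have h2 : ¬ 2 ∣ (P : Subgroup H).index := P.not_dvd_index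
  have h3 : μ.ker.index ∣ 2 := by
    rw [Subgroup.index_ker]
    have := Subgroup.card_subgroup_dvd_card μ.range
    simpa [Nat.card_eq_fintype_card] using this
  rcases (Nat.dvd_prime Nat.prime_two).1 h3 with h | h
  · exact h
  · rw [h] at h1
    exact absurd h1 h2

end Cfsg.Agent.ExtraTransfer
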